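import Cfsg.Agent.Mrg.Omega.OM.Lev.GSym
import Cfsg.Agent.Mrg.Omega.OM.SwapL.Mod
import Cfsg.Agent.Mrg.Omega.OM.Swap.Gen.One

section


/-!
# THEOREM SW at the levels, STEP 0: the family of offenders of a pair

`exists_fam` : a pair `(T, F)` of any stage `-1 ≤ s ≤ n` has a family `𝓐` as in helper394's `Fm`; some member in `T` is
not in `O₂(F)`; the members in `T` lie in `B`, and they centralise `V` or are best offenders on `Ω₁Z(lev S n)`.
-/

set_option autoImplicit false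

namespace Cfsg.Agent.Omega.OM.SwapL

open Subgroup Cfsg Cfsg.Agent.ZN.ChoiceBase Cfsg.Agent.ZN.ChoiceSit
open Cfsg.Agent.ZN (jj zj bau zc zl o2)
open Cfsg.Agent.MinSimple.MinParabolic (IsMinPar)
open Cfsg.Agent.Omega.NO3S (HypN)
open Cfsg.Agent.Omega.NO3S.Level (lev Lev lev_isLev BO nxt)
open Cfsg.Agent.Omega.OM.LevD (LB K0)
open Cfsg.Agent.Omega.OM.Swap.Fam (Fm BF fm_AA fm_best)

universe u

variable {G : Type u} [Group G] [Finite G]

section line

variable {ι : Type} {S : Sylow 2 G} {P : Subgroup G} {n : ℕ} {L W Z C A : ι → Subgroup G} {q : ℕ}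

/-- members of lower levels centralise `V` -/
theorem comm_V (h : Ln S P n L W Z C A q) {a v : G} (ha : a ∈ lev (S : Subgroup G) n)
    (hv : v ∈ zl (S : Subgroup G) P) : a * v = v * a := h.fr.cQ (h.le ha) hv

theorem zc_elab (K : Subgroup G) : IsElementaryAbelian 2 (zc K) :=
  ⟨⟨⟨fun a b => Subtype.ext ((mem_zc.1 b.2).2.2 _ (mem_zc.1 a.2).1)⟩⟩, fun a ha => (mem_zc.1 ha).2.1⟩

theorem V_le_X (h : Ln S P n L W Z C A q) {s : ℕ} (hs : s ≤ n) :
    zl (S : Subgroup G) P ≤ zc (lev (S : Subgroup G) s) :=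
  h.fr.VX.trans ((lev_isLev (S : Subgroup G) s).zc_le_zc (NO3S.Level.lev_mono _ hs)
    (NO3S.Level.lev_le (S : Subgroup G) n))

theorem Pair.minPar {M T F : Subgroup G} (hp : Pair S P n M T F)
    (hZM : normalizer (ZL (S : Subgroup G) n : Set G) ≤ M) : IsMinPar T F := by
  refine ⟨hp.syl.1, fun hle => ?_, F ⊓ M, lt_of_le_of_ne inf_le_left fun e => hp.nM (inf_eq_left.1 e),
    fun K hTK hKF => le_inf hKF.le (hp.min K hTK hKF)⟩
  apply hp.nK hZM
  exact ((lb S n).KB.trans hp.BT).trans (le_o2 hp.syl.2.1 hp.syl.1 hle)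

/-- The family of offenders. -/
theorem exists_fam (h : Ln S P n L W Z C A q) {M T F : Subgroup G} (hp : Pair S P n M T F)
    (hD : centralizer (ZL (S : Subgroup G) n : Set G) ≤ M) (hTM : T ≤ M)
    (hZM : normalizer (ZL (S : Subgroup G) n : Set G) ≤ M) :
    ∃ 𝓐 : Set (Subgroup G),
      (∀ Λ : Subgroup G, IsElementaryAbelian 2 Λ → Λ ≤ F → F ≤ normalizer (Λ : Set G) →
        Λ ≤ NoFF.Basic.V (zl (S : Subgroup G) P) F → Fm F Λ 𝓐) ∧
      (∃ X ∈ 𝓐, X ≤ T ∧ ¬ X ≤ o2 F) ∧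
      ∀ X ∈ 𝓐, X ≤ T → X ≤ BL (S : Subgroup G) n ∧
        ((∀ a ∈ X, ∀ v ∈ zl (S : Subgroup G) P, a * v = v * a) ∨
          Lev.Uni.Best (zc (lev (S : Subgroup G) n)) X) := by
  have hT2 := hp.syl.2.1
  have hKT : lev (S : Subgroup G) (n + 1) ≤ T := (lb S n).KB.trans hp.BT
  have h0T : jj (S : Subgroup G) ≤ T :=
    (NO3S.Level.lev_mono (S : Subgroup G) (Nat.zero_le (n + 1))).trans hKT
  rcases exists_stage hp hZM with hJ | ⟨s, hs, hlow, hnle⟩
  · -- stage `-1`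
    have hjT : jj T = jj (S : Subgroup G) := MinSimple.EmptyTI.jj_eq S hT2 h0T
    refine ⟨AA F, fun Λ hΛ hΛF hn _ => fm_AA hΛ hΛF hn, ?_, fun X hX hXT => ?_⟩
    · by_contra hcon
      push Not at hcon
      apply hJ
      rw [← hjT, Cfsg.Agent.ZN.ChoiceBase.jj_eq]
      exact sSup_le fun X hX => hcon X (Swap.AA_of_syl hp.syl hX) hX.2.1
    · have h1 : X ≤ lev (S : Subgroup G) 0 := by
        have := le_jj (Swap.AA_of_le hX hXT hp.syl.1)
        rwa [hjT] at this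
      have h2 : X ≤ lev (S : Subgroup G) n := h1.trans (NO3S.Level.lev_mono _ (Nat.zero_le n))
      exact ⟨(h2.trans (NO3S.Level.lev_mono _ (Nat.le_succ n))).trans (lb S n).KB,
        Or.inl fun a ha v hv => comm_V h (h2 ha) hv⟩
  · -- stage `s`
    have hX := zc_elab (lev (S : Subgroup G) s)
    have hFN : F ≤ normalizer (zc (lev (S : Subgroup G) s) : Set G) :=
      (le_normalizer_o2 F).trans ((LB.lev S s).nrm _ (isPGroup_o2 F) hlow)
    have hlev : ∀ j, j ≤ n + 1 → lev T j = lev (S : Subgroup G) j := LevD.lev_eq S hT2 hKT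
    have hVX := V_le_X h hs
    refine ⟨BF F (zc (lev (S : Subgroup G) s)), fun Λ hΛ hΛF hn hle => fm_best hX hFN ?_ hn, ?_, fun X hXA hXT => ?_⟩
    · refine hle.trans (NoFF.Basic.V_le fun f hf => ?_)
      have h1 := cj_mono f hVX
      rwa [cj_eq_of_mem_normalizer (hFN hf)] at h1
    · by_contra hcon
      push Not at hcon
      apply hnle
      rw [← hlev (s + 1) (by omega)]
      have e : lev T (s + 1) = nxt T (lev T s) := rfl
      rw [e, hlev s (by omega)]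
      have : Fact (Nat.Prime 2) := ⟨Nat.prime_two⟩
      have hNn : F ≤ normalizer ((F ⊓ centralizer (zc (lev (S : Subgroup G) s) : Set G) : Subgroup G) : Set G) := by
        intro f hf
        rw [mem_normalizer_iff_cj, cj_inf, cj_centralizer, cj_eq_of_mem_normalizer (hFN hf),
          cj_eq_of_mem_normalizer (le_normalizer hf)]
      refine sup_le ?_ (sSup_le fun X hX' => hcon X ⟨hX'.1.trans hp.syl.1, hT2.to_le hX'.1, hX'.2⟩ hX'.1)
      rcases (hp.minPar hZM).sup_eq_or_inf_le (p := 2) hT2 (syl_not_dvd hp.syl)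
        (N := F ⊓ centralizer (zc (lev (S : Subgroup G) s) : Set G)) inf_le_left hNn with h1 | h1
      · exfalso
        apply hp.nM
        rw [← h1]
        refine sup_le ((inf_le_right.trans (centralizer_le ?_)).trans hD) hTM
        exact_mod_cast h.fr.ZJV.trans hVX
      · refine le_trans (fun x hx => ?_) h1
        exact ⟨hx.1, hp.syl.1 hx.1, hx.2⟩
    · have h1 : X ≤ lev (S : Subgroup G) (s + 1) := by
        rw [← hlev (s + 1) (by omega)]
        have e : lev T (s + 1) = nxt T (lev T s) := rfl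
        rw [e, hlev s (by omega)]
        exact NO3S.Level.BO.le_nxt ⟨hXT, hXA.2.2⟩
      refine ⟨(h1.trans (NO3S.Level.lev_mono _ (by omega))).trans (lb S n).KB, ?_⟩
      rcases hs.lt_or_eq with hlt | rfl
      · left
        intro a ha v hv
        exact comm_V h (NO3S.Level.lev_mono (S : Subgroup G) (by omega : s + 1 ≤ n) (h1 ha)) hv
      · right
        exact fun F' h1 h2 => hXA.2.2.max F' h2 h1

end line

end Cfsg.Agent.Omega.OM.SwapL

end

section


/-!
# THEOREM SW at the levels, STEP 0: the situation `SitF` from the ground frame `Ln S P n L W Z C A 2`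

`M ≥ C_G(Z_J), L_i, N_G(B)`, `BM S n M`. If some subgroup `H ≥ B` of characteristic 2 is not contained in `M`, then there is a pair `(T, F)`
with `|Phi(T)|` maximal and one `O₂(F)`-orbit of indices for which `SitF` holds.

* `exists_sit`; `le_of_char2`; `noOm` : (Om) is impossible for `q = 2` at every stage `n ≥ 0`.
-/

set_option autoImplicit false

namespace Cfsg.Agent.Omega.OM.SwapL

open Subgroup Cfsg Cfsg.Agent.ZN.ChoiceBase Cfsg.Agent.ZN.ChoiceSit
open Cfsg.Agent.ZN (jj zj bau zc zl o2)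
open Cfsg.Agent.Omega.NO3S (HypN)
open Cfsg.Agent.Omega.NO3S.Level (lev Lev lev_isLev)
open Cfsg.Agent.Omega.OM.LevD (LB K0 Fam)
open Cfsg.Agent.Omega.OM.LevB (FBlk)
open Cfsg.Agent.MinSimple.MinParabolic (IsMinPar)
open Cfsg.Agent.Omega.OM.Swap.Fam (Fm SitF)
open Cfsg.Agent.Omega.OM.Swap (char2_cent)

universe u

variable {G : Type u} [Group G] [Finite G]

/-- the indices fixed by `T` -/
def Phi {ι : Type} (Z : ι → Subgroup G) (T : Subgroup G) : Set ι := {i | ∀ t ∈ T, cj t (Z i) = Z i}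

section line

variable {ι : Type} [Finite ι] {S : Sylow 2 G} {P : Subgroup G} {n : ℕ} {L W Z C A : ι → Subgroup G}

/-- A pair with `|Phi(T)|` maximal; `C_G(Z₀ z_j) ≤ M` for `j ∉ Phi(T)`. -/
theorem exists_max (h : Ln S P n L W Z C A 2) {M H : Subgroup G} (hBM : BM S n M)
    (hD : centralizer (ZL (S : Subgroup G) n : Set G) ≤ M) (hN : normalizer (BL (S : Subgroup G) n : Set G) ≤ M)
    (hB : BL (S : Subgroup G) n ≤ H) (hc : H ⊓ centralizer (o2 H : Set G) ≤ o2 H) (hM : ¬ H ≤ M) :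
    ∃ T F : Subgroup G, Pair S P n M T F ∧ ∀ j, j ∉ Phi Z T →
      centralizer (((⨆ i ∈ Phi Z T, Z i) ⊔ Z j : Subgroup G) : Set G) ≤ M := by
  classical
  have hS2 : IsPGroup 2 (ZL (S : Subgroup G) n) := (lb S n).Bp.to_le (lb S n).ZB
  -- choose
  let s : Set ℕ := {m | ∃ T F : Subgroup G, Pair S P n M T F ∧ (Phi Z T).ncard = m}
  have hs1 : s.Nonempty := by
    obtain ⟨T, F, hp, -⟩ := exists_pair h hBM hD hN hB hc hM
    exact ⟨_, T, F, hp, rfl⟩
  have hs2 : s.Finite := by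
    refine (Set.finite_Iic (Nat.card ι)).subset ?_
    rintro m ⟨T, F, -, rfl⟩
    rw [Set.mem_Iic, ← Set.ncard_univ]
    exact Set.ncard_le_ncard (Set.subset_univ _)
  obtain ⟨m, hm⟩ := hs2.exists_maximal hs1
  obtain ⟨T, F, hp, hcard⟩ := hm.prop
  refine ⟨T, F, hp, fun j hj => ?_⟩
  by_contra hcon
  set X : Subgroup G := (⨆ i ∈ Phi Z T, Z i) ⊔ Z j with hX
  have hXJ : X ≤ ZL (S : Subgroup G) n :=
    sup_le (iSup_le fun i => iSup_le fun _ => h.fr.Z_le i) (h.fr.Z_le j)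
  have hX1 : X ≠ ⊥ := by
    intro e
    obtain ⟨z, hz, hz1⟩ := Z_ne h j
    have h1 : z ∈ X := mem_sup_right hz
    rw [e, mem_bot] at h1
    exact hz1 h1
  have hBX : BL (S : Subgroup G) n ≤ centralizer (X : Set G) :=
    (lb S n).Bc.trans (centralizer_le (by exact_mod_cast hXJ))
  obtain ⟨T', F', hp', hle⟩ := exists_pair h hBM hD hN hBX
    (char2_cent h.hyp.ctx.char2 (hS2.to_le hXJ) hX1) hcon
  have hfix : ∀ i, Z i ≤ X → i ∈ Phi Z T' := by
    intro i hi t ht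
    have h1 := hle (hp'.syl.1 ht)
    refine cj_eq_of_mem_normalizer (centralizer_le_normalizer _ ?_)
    exact centralizer_le (by exact_mod_cast hi) h1
  have hsub : insert j (Phi Z T) ⊆ Phi Z T' := by
    rintro i (rfl | hi)
    · exact hfix _ le_sup_right
    · exact hfix _ (le_sup_of_le_left (le_iSup₂ (f := fun i (_ : i ∈ Phi Z T) => Z i) i hi))
  have h2 : m + 1 ≤ (Phi Z T').ncard := by
    rw [← hcard, ← Set.ncard_insert_of_notMem hj (Set.toFinite _)]
    exact Set.ncard_le_ncard hsub (Set.toFinite _)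
  have h3 : (Phi Z T').ncard ≤ m := hm.le_of_ge ⟨T', F', hp', rfl⟩ (by show m ≤ (Phi Z T').ncard; omega)
  omega

/-- `V` commutes with its conjugates under `F` if `V ≤ O₂(F)`, `B ≤ T`. -/
theorem comm_of_pair (h : Ln S P n L W Z C A 2) {M T F : Subgroup G} (hp : Pair S P n M T F) {f : G} (hf : f ∈ F)
    {x y : G} (hx : x ∈ zl (S : Subgroup G) P) (hy : y ∈ zl (S : Subgroup G) P) :
    x * (f * y * f⁻¹) = f * y * f⁻¹ * x := by
  have hV := hp.VO
  have hTn := two_norm h hp.syl.2.1 hp.BT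
  have hO : o2 F ≤ T := o2_le_syl hp.syl
  have hcO : cj f (o2 F) = o2 F := cj_eq_of_mem_normalizer (le_normalizer_o2 F hf)
  have h1 : cj f (zl (S : Subgroup G) P) ≤ normalizer (zl (S : Subgroup G) P : Set G) := by
    have := cj_mono f hV
    rw [hcO] at this
    exact (this.trans hO).trans hTn
  have h2 : zl (S : Subgroup G) P ≤ normalizer ((cj f (zl (S : Subgroup G) P) : Subgroup G) : Set G) := by
    have h3 := cj_mono f ((hO.trans hTn : o2 F ≤ normalizer (zl (S : Subgroup G) P : Set G)))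
    rw [hcO, cj_normalizer] at h3
    exact hV.trans h3
  by_contra hne
  refine h.hyp.noFF ⟨P, P, f, h.hyp.star, h.hyp.star, h2, h1, fun e => hne ?_⟩
  have h4 := commutator_eq_bot_iff_le_centralizer.1 e
  exact (mem_centralizer_iff.1 (h4 hx) (f * y * f⁻¹) ⟨y, hy, rfl⟩).symm

/-- **STEP 0.** -/
theorem exists_sit (h : Ln S P n L W Z C A 2) {M H : Subgroup G} (hBM : BM S n M) (hLM : ∀ i, L i ≤ M)
    (hD : centralizer (ZL (S : Subgroup G) n : Set G) ≤ M) (hN : normalizer (BL (S : Subgroup G) n : Set G) ≤ M)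
    (hB : BL (S : Subgroup G) n ≤ H) (hc : H ⊓ centralizer (o2 H : Set G) ≤ o2 H) (hM : ¬ H ≤ M) :
    ∃ (T F F₀ : Subgroup G) (𝓐 : Set (Subgroup G)) (κ : Type) (V : κ → Subgroup G) (z : κ → G),
      SitF F T F₀ 𝓐 V z := by
  classical
  obtain ⟨T, F, hp, hcen⟩ := exists_max h hBM hD hN hB hc hM
  have hZM : normalizer (ZL (S : Subgroup G) n : Set G) ≤ M := (lb S n).norm_zj_le.trans (sup_le hD hN)
  have hSM : (S : Subgroup G) ≤ M := ((lb S n).two_le S.isPGroup' (lb S n).BS).trans hN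
  have hTN : T ≤ normalizer (BL (S : Subgroup G) n : Set G) := (lb S n).two_le hp.syl.2.1 hp.BT
  have hTM : T ≤ M := hTN.trans hN
  have hO : o2 F ≤ T := o2_le_syl hp.syl
  have hON : o2 F ≤ normalizer (BL (S : Subgroup G) n : Set G) := hO.trans hTN
  have hTF : T ≤ F := hp.syl.1
  obtain ⟨𝓐, hfam, hnJ, hA⟩ := exists_fam h hp hD hTM hZM
  choose z hz hz1 using Z_ne h
  -- an index moved by `O₂(F)`
  obtain ⟨i₀, o₀, ho₀, hmv⟩ : ∃ i, ∃ o ∈ o2 F, cj o (Z i) ≠ Z i := by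
    by_contra hcon
    push Not at hcon
    apply hp.nM
    have h1 : ZL (S : Subgroup G) n ≤ centralizer (F : Set G) := by
      intro x hx
      refine hp.fix ⟨hx, mem_centralizer_iff.2 fun o ho => ?_⟩
      refine comm_of_supp h (hON ho) hx fun i j e => ?_
      rw [hcon i o ho] at e
      rw [Z_inj h e]
    exact (le_centralizer_iff.1 h1).trans hD
  -- its orbit
  set r : Set ι := {j | ∃ o ∈ o2 F, cj o (Z i₀) = Z j} with hr
  have hrO : ∀ o ∈ o2 F, ∀ i j, cj o (Z i) = Z j → (i ∈ r ↔ j ∈ r) := by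
    intro o ho i j e
    constructor
    · rintro ⟨o', ho', e'⟩
      exact ⟨o * o', mul_mem ho ho', cj_mul_eq e' e⟩
    · rintro ⟨o', ho', e'⟩
      exact ⟨o⁻¹ * o', mul_mem (inv_mem ho) ho', cj_mul_eq e' (cj_inv_eq e)⟩
  have hi₀ : i₀ ∈ r := ⟨1, one_mem _, cj_one _⟩
  obtain ⟨j₀, hj₀, -⟩ := perm h (hON ho₀) i₀
  have hj₀r : j₀ ∈ r := ⟨o₀, ho₀, hj₀⟩
  have hne₀ : i₀ ≠ j₀ := by
    rintro rfl
    exact hmv hj₀
  -- elements of `Z_J` with support `r` are centralised by `F`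
  have hsuppF : ∀ x ∈ ZL (S : Subgroup G) n, (∀ i, x ∈ C i ↔ i ∉ r) → ∀ f ∈ F, f * x = x * f := by
    intro x hx hxs f hf
    refine mem_centralizer_iff.1 (hp.fix ⟨hx, mem_centralizer_iff.2 fun o ho => ?_⟩) f hf
    refine comm_of_supp h (hON ho) hx fun i j e => ?_
    rw [hxs i, hxs j, hrO o ho i j e]
  obtain ⟨xr, hxr, hxrs⟩ := exists_supp h r
  -- `T` stabilises `r`
  have hrT : ∀ t ∈ T, ∀ i j, cj t (Z i) = Z j → i ∈ r → j ∈ r := by
    intro t ht i j e hi
    by_contra hj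
    have h1 := (supp_cj h (hTN ht) e hxr).1
    have h2 := hsuppF xr hxr hxrs t (hTF ht)
    have h3 : t * xr * t⁻¹ = xr := by rw [h2]; group
    rw [h3] at h1
    exact (hxrs i).1 (h1 ((hxrs j).2 hj)) hi
  -- `r` and `Phi(T)` are disjoint
  have hrPhi : ∀ j ∈ r, j ∉ Phi Z T := by
    rintro j ⟨o, ho, e⟩ hj
    apply hmv
    have h1 := hj (o * o₀ * o⁻¹) (hO (mul_mem (mul_mem ho ho₀) (inv_mem ho)))
    rw [← e, cj_cj] at h1
    have h2 : cj o⁻¹ (cj (o * o₀ * o⁻¹ * o) (Z i₀)) = cj o⁻¹ (cj o (Z i₀)) := by rw [h1]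
    rw [cj_cj, cj_inv_cj] at h2
    have e2 : o⁻¹ * (o * o₀ * o⁻¹ * o) = o₀ := by group
    rwa [e2] at h2
  -- the group `Z₀`
  set Z₀ : Subgroup G := ⨆ i ∈ Phi Z T, Z i with hZ₀
  have hZ₀J : Z₀ ≤ ZL (S : Subgroup G) n := iSup_le fun i => iSup_le fun _ => h.fr.Z_le i
  have hFZ₀ : F ≤ centralizer (Z₀ : Set G) := by
    rw [le_centralizer_iff]
    refine iSup_le fun i => iSup_le fun hi x hx => ?_
    refine hp.fix ⟨h.fr.Z_le i hx, mem_centralizer_iff.2 fun o ho => ?_⟩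
    exact cent_of_cj h (hi o (hO ho)) hx
  have hBZ₀ : BL (S : Subgroup G) n ≤ centralizer (Z₀ : Set G) :=
    (lb S n).Bc.trans (centralizer_le (by exact_mod_cast hZ₀J))
  have hLZ₀ : ∀ j ∈ r, L j ≤ centralizer (Z₀ : Set G) := by
    intro j hj
    rw [le_centralizer_iff]
    refine iSup_le fun i => iSup_le fun hi x hx => ?_
    rw [mem_centralizer_iff]
    intro l hl
    have hij : j ≠ i := by
      rintro rfl
      exact hrPhi _ hj hi
    exact h.fr.LC j l hl x (h.fr.Z_le i hx) (Z_C h hij hx)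
  -- (TI)
  have hti : ∀ i ∈ r, ∀ x ∈ W i, x ≠ 1 → ∀ f ∈ F, x ∈ cj f (⨆ j ∈ r, W j) → f ∈ M := by
    intro i hi x hx hx1 f hf hxf
    obtain ⟨l, hl, hxl⟩ := UniPlus.cover_two (nb h.fr i) hx
    rw [mem_cj] at hxl hxf
    -- `C_G(Z₀ x) ≤ M`
    have hcx : ∀ u, u ∈ centralizer (Z₀ : Set G) → u * x = x * u → u ∈ M := by
      intro u hu hux
      have h1 : l⁻¹ * u * l ∈ M := by
        refine hcen i (hrPhi i hi) ?_
        rw [mem_centralizer_iff]
        intro y hy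
        have h2 : ((⨆ i ∈ Phi Z T, Z i) ⊔ Z i : Subgroup G) ≤ centralizer ({l⁻¹ * u * l} : Set G) := by
          refine sup_le ?_ fun y hy => ?_
          · have h3 : l⁻¹ * u * l ∈ centralizer (Z₀ : Set G) :=
              mul_mem (mul_mem (inv_mem (hLZ₀ i hi hl)) hu) (hLZ₀ i hi hl)
            intro y hy
            rw [mem_centralizer_singleton_iff]
            exact mem_centralizer_iff.1 h3 y hy
          · rw [mem_centralizer_singleton_iff]
            by_cases hy1 : y = 1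
            · rw [hy1]; simp
            have h3 : l⁻¹ * x * l ≠ 1 := fun h4 => hx1 (by
              have h5 := congrArg (fun t => l * t * l⁻¹) h4
              simpa [mul_assoc] using h5)
            have h4 := Z_eq h hy hxl hy1 h3
            rw [h4]
            have h5 := congrArg (fun t => l⁻¹ * t * l) hux
            simpa [mul_assoc] using h5.symm
        exact mem_centralizer_singleton_iff.1 (h2 hy)
      have h2 := mul_mem (mul_mem (hLM i hl) h1) (inv_mem (hLM i hl))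
      have e : l * (l⁻¹ * u * l) * l⁻¹ = u := by group
      rwa [e] at h2
    obtain ⟨m, hm, hmx'⟩ := conj_ZJ h.fr r hxf
    have hmx : m * (f⁻¹ * x * f) * m⁻¹ ∈ ZL (S : Subgroup G) n :=
      (iSup₂_le fun i _ => h.fr.Z_le i : (⨆ i ∈ r, Z i) ≤ ZL (S : Subgroup G) n) hmx'
    have hmM : m ∈ M := (iSup₂_le fun i (_ : i ∈ r) => hLM i : (⨆ i ∈ r, L i) ≤ M) hm
    have hmZ : m ∈ centralizer (Z₀ : Set G) :=
      (iSup₂_le fun i (hi : i ∈ r) => hLZ₀ i hi : (⨆ i ∈ r, L i) ≤ centralizer (Z₀ : Set G)) hm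
    have hg : f * m⁻¹ ∈ M := by
      refine mem_of_cj_B_le S (n := n) hSM hN ?_
      rintro _ ⟨b, hb, rfl⟩
      refine hcx _ ?_ ?_
      · have hgZ : f * m⁻¹ ∈ centralizer (Z₀ : Set G) := mul_mem (hFZ₀ hf) (inv_mem hmZ)
        exact mul_mem (mul_mem hgZ (hBZ₀ hb)) (inv_mem hgZ)
      · have h1 := mem_centralizer_iff.1 ((lb S n).Bc hb) _ hmx
        change (f * m⁻¹) * b * (f * m⁻¹)⁻¹ * x = x * ((f * m⁻¹) * b * (f * m⁻¹)⁻¹)
        have h2 := congrArg (fun t => (f * m⁻¹) * t * (f * m⁻¹)⁻¹) h1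
        have e1 : (f * m⁻¹) * (m * (f⁻¹ * x * f) * m⁻¹ * b) * (f * m⁻¹)⁻¹ =
          x * ((f * m⁻¹) * b * (f * m⁻¹)⁻¹) := by group
        have e2 : (f * m⁻¹) * (b * (m * (f⁻¹ * x * f) * m⁻¹)) * (f * m⁻¹)⁻¹ =
          (f * m⁻¹) * b * (f * m⁻¹)⁻¹ * x := by group
        have h3 : (f * m⁻¹) * (m * (f⁻¹ * x * f) * m⁻¹ * b) * (f * m⁻¹)⁻¹ =
            (f * m⁻¹) * (b * (m * (f⁻¹ * x * f) * m⁻¹)) * (f * m⁻¹)⁻¹ := by
          first
            | exact h2
            | exact h2.symm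
        rw [e1, e2] at h3
        exact h3.symm
    have h3 := mul_mem hg hmM
    have e : f * m⁻¹ * m = f := by group
    rwa [e] at h3
  have hsup : (⨆ j : r, W j) = ⨆ j ∈ r, W j := iSup_subtype' (f := fun j (_ : j ∈ r) => W j) |>.symm
  have hWV : ∀ i, W i ≤ zl (S : Subgroup G) P := h.fr.WV
  have hcomm : ∀ f ∈ F, ∀ x ∈ zl (S : Subgroup G) P, ∀ y ∈ zl (S : Subgroup G) P,
      x * (f * y * f⁻¹) = f * y * f⁻¹ * x := fun f hf x hx y hy => comm_of_pair h hp hf hx hy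
  -- `Λ = ⟨V^F⟩` is elementary abelian
  have hVel : IsElementaryAbelian 2 (NoFF.Basic.V (zl (S : Subgroup G) P) F) := by
    have h1 := Swap.elab_iSup (W := fun f : F => cj (f : G) (zl (S : Subgroup G) P)) (fun f f' x hx y hy => ?_)
      fun f x hx => ?_
    · exact Swap.elab_of h1.1 h1.2
    · rw [mem_cj] at hx hy
      have h2 := hcomm ((f : G)⁻¹ * f') (mul_mem (inv_mem f.2) f'.2) _ hx _ hy
      have e1 : (f : G)⁻¹ * f' * ((f' : G)⁻¹ * y * f') * ((f : G)⁻¹ * f')⁻¹ = (f : G)⁻¹ * y * f := by group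
      rw [e1] at h2
      have h3 := congrArg (fun t => (f : G) * t * (f : G)⁻¹) h2
      have e2 : (f : G) * ((f : G)⁻¹ * x * f * ((f : G)⁻¹ * y * f)) * (f : G)⁻¹ = x * y := by group
      have e3 : (f : G) * ((f : G)⁻¹ * y * f * ((f : G)⁻¹ * x * f)) * (f : G)⁻¹ = y * x := by group
      exact e2.symm.trans (h3.trans e3)
    · rw [mem_cj] at hx
      have h2 := SQ1.Bau.elem_sq h.fr.el _ hx
      rw [pow_two] at h2
      have e : x * x = f * ((f : G)⁻¹ * x * f * ((f : G)⁻¹ * x * f)) * (f : G)⁻¹ := by group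
      rw [e, h2]; group
  have hUV : (⨆ j : r, W j) ≤ zl (S : Subgroup G) P := iSup_le fun j => hWV j
  have hLV : NoFF.Basic.V (⨆ j : r, W j) F ≤ NoFF.Basic.V (zl (S : Subgroup G) P) F :=
    NoFF.Basic.V_le fun f hf => (cj_mono f hUV).trans (NoFF.Basic.Z_le_V hf)
  have hUF : (⨆ j : r, W j) ≤ F := hUV.trans (hp.VO.trans (o2_le F))
  refine ⟨T, F, F ⊓ M, 𝓐, r, fun i => W i, fun i => z i, ?_⟩
  refine
    { syl := hp.syl
      TF₀ := le_inf hTF hTM
      F₀F := lt_of_le_of_ne inf_le_left fun e => hp.nM (inf_eq_left.1 e)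
      max := fun K hTK hKF => le_inf hKF.le (hp.min K hTK hKF)
      fam := hfam _ (Swap.elab_mono hVel hLV) ?_ OmThm.XD.X_le_normalizer_W hLV
      nJ := hnJ
      fin := inferInstance
      two := ⟨⟨i₀, hi₀⟩, ⟨j₀, hj₀r⟩, fun e => hne₀ (congrArg Subtype.val e)⟩
      card := fun i => by rw [(h.fr.blk i).card, h.fr.cardZ]
      zV := fun i => Z_W h _ (hz i)
      z1 := fun i => hz1 i
      VO := fun i => (hWV i).trans hp.VO
      sq := fun i x hx => by
        rw [← pow_two]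
        exact SQ1.Bau.elem_sq h.fr.el x (hWV i hx)
      comm := fun f hf i j x hx y hy => comm_of_pair h hp hf (hWV i hx) (hWV j hy)
      ind := ?_
      perm := ?_
      tr := ?_
      nor := ?_
      hat := ?_
      mov := ?_
      zc := ?_
      ti := ?_ }
  · refine NoFF.Basic.V_le fun f hf => ?_
    have := cj_mono f hUF
    rwa [cj_eq_of_mem_normalizer (le_normalizer hf)] at this
  · rintro ⟨i, hi⟩ x hx hx'
    have h1 : (⨆ j : r, ⨆ _ : j ≠ ⟨i, hi⟩, W j) ≤ C i := by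
      refine iSup_le fun j => iSup_le fun hj => ?_
      exact h.fr.WjC i j fun e => hj (Subtype.ext e.symm)
    have h2 : x ∈ W i ⊓ C i := mem_inf.2 ⟨hx, h1 hx'⟩
    rwa [h.fr.dir i, mem_bot] at h2
  · rintro t ht ⟨i, hi⟩
    obtain ⟨j, h1, h2, -⟩ := perm h (hTN ht) i
    exact ⟨⟨j, hrT t ht i j h1 hi⟩, h2, conj_gen h h1 (hz i) (hz1 i) (hz j) (hz1 j)⟩
  · rintro ⟨i, o, ho, e⟩ ⟨j, o', ho', e'⟩
    refine ⟨o' * o⁻¹, mul_mem ho' (inv_mem ho), ?_⟩
    exact W_cj h (hON (mul_mem ho' (inv_mem ho))) (cj_mul_eq (cj_inv_eq e) e')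
  · rintro X hX hXT a ha ⟨i, hi⟩
    have hb := (hA X hX hXT).1 ha
    have key : ∀ b ∈ BL (S : Subgroup G) n, cj b (W i) ≤ W i := by
      rintro b hb _ ⟨w, hw, rfl⟩
      exact (h.fr.blk i).BV hb hw
    refine le_antisymm (key a hb) ?_
    have := cj_mono a (key a⁻¹ (inv_mem hb))
    rwa [cj_cj_inv] at this
  · rintro X hX hXT ⟨i, hi⟩ hmv'
    obtain ⟨hXB, h1 | hbest⟩ := hA X hX hXT
    · obtain ⟨a, ha, x, hx, hne⟩ := hmv'
      exact absurd (h1 a ha x (hWV i hx)) hne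
    · obtain ⟨a, ha, h1, h2⟩ := hat h.fr hXB hbest hmv'
      exact ⟨a, ha, h1, fun j hj x hx => h2 j (fun e => hj (Subtype.ext e)) x hx⟩
  · rintro ⟨i, hi⟩
    have h2 := h.fr.Ane i
    push Not at h2
    obtain ⟨a, ha, v, hv, hne⟩ := h2
    refine ⟨a, hp.BT (h.fr.AB i ha), ⟨v, hv, hne⟩, fun j hj x hx => ?_⟩
    exact h.fr.AC i a ha x (h.fr.WjC i j (fun e => hj (Subtype.ext e.symm)) hx)
  · rintro ⟨i, hi⟩ ⟨j, hj⟩ hij hall f hf
    have hij' : i ≠ j := fun e => hij (Subtype.ext e)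
    have hall' : ∀ k ∈ r, k = i ∨ k = j := by
      intro k hk
      rcases hall ⟨k, hk⟩ with e | e
      · exact Or.inl (congrArg Subtype.val e)
      · exact Or.inr (congrArg Subtype.val e)
    refine hsuppF (z i * z j) (mul_mem (h.fr.Z_le i (hz i)) (h.fr.Z_le j (hz j))) (fun k => ?_) f hf
    by_cases hki : k = i
    · subst hki
      rw [Subgroup.mul_mem_cancel_right _ (Z_C h hij' (hz j))]
      exact ⟨fun h1 => absurd h1 (not_mem_C h (hz k) (hz1 k)), fun h1 => absurd hi h1⟩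
    · by_cases hkj : k = j
      · subst hkj
        rw [Subgroup.mul_mem_cancel_left _ (Z_C h hki (hz i))]
        exact ⟨fun h1 => absurd h1 (not_mem_C h (hz k) (hz1 k)), fun h1 => absurd hj h1⟩
      · refine ⟨fun _ hk => ?_, fun _ => mul_mem (Z_C h hki (hz i)) (Z_C h hkj (hz j))⟩
        rcases hall' k hk with e | e
        · exact hki e
        · exact hkj e
  · rintro ⟨i, hi⟩ x hx hx1 f hf hxf
    rw [hsup] at hxf
    exact mem_inf.2 ⟨hf, hti i hi x hx hx1 f hf hxf⟩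

/-- The conclusion of STEPS 1 and 2 over a family (helper394). -/
def SitFFalse : Prop :=
  ∀ (G : Type u) [Group G] [Finite G] (F T F₀ : Subgroup G) (𝓐 : Set (Subgroup G)) (κ : Type) (V : κ → Subgroup G)
    (z : κ → G), SitF F T F₀ 𝓐 V z → False

/-- **THEOREM SW at the levels**: every subgroup of characteristic 2 over `B` is contained in every
`M ≥ C_G(Z_J), L_i, N_G(B)`, if the minimal parabolics over `T ≥ B` which move `Ω₁Z(T)` are. -/
theorem le_of_char2 (hs : SitFFalse.{u}) (h : Ln S P n L W Z C A 2) {M H : Subgroup G} (hBM : BM S n M)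
    (hLM : ∀ i, L i ≤ M)
    (hD : centralizer (ZL (S : Subgroup G) n : Set G) ≤ M) (hN : normalizer (BL (S : Subgroup G) n : Set G) ≤ M)
    (hB : BL (S : Subgroup G) n ≤ H) (hc : H ⊓ centralizer (o2 H : Set G) ≤ o2 H) : H ≤ M := by
  by_contra hM
  obtain ⟨T, F, F₀, 𝓐, κ, V, z, hS⟩ := exists_sit h hBM hLM hD hN hB hc hM
  exact hs G F T F₀ 𝓐 κ V z hS

/-- **LL** for `M`: minimal parabolics of smaller stage over `T ≥ B` which move `Ω₁Z(T)` lie in `M`. -/
def Low (S : Sylow 2 G) (n : ℕ) (M : Subgroup G) : Prop :=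
  ∀ T Y : Subgroup G, Syl T Y → BL (S : Subgroup G) n ≤ T → IsMinPar T Y →
    Y ⊓ centralizer (o2 Y : Set G) ≤ o2 Y → ¬ lev (S : Subgroup G) n ≤ o2 Y →
    ¬ Y ≤ centralizer (zc T : Set G) → Y ≤ M

omit [Finite ι] in
theorem bm_of_low (S : Sylow 2 G) {n : ℕ} {M : Subgroup G}
    (hK : K0 (ZL (S : Subgroup G) n) (FBlk (BL (S : Subgroup G) n)) ≤ M)
    (hN : normalizer (BL (S : Subgroup G) n : Set G) ≤ M) (hl : Low S n M) : BM S n M := by
  intro T Y hT hB hY hc hn hZ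
  by_cases h1 : lev (S : Subgroup G) n ≤ o2 Y
  · exact (LevB.blkGen S hT hB hY hc h1 hn hZ).trans (sup_le hK (((lb S n).two_le hT.2.1 hB).trans hN))
  · exact hl T Y hT hB hY hc h1 hZ

/-- **(Om) is impossible for `q = 2` at stage `n`**: `K0` normalises no nontrivial 2-subgroup. LL is used for the local
groups `M ≥ K0, N_G(B)` only. -/
theorem noOm (hs : SitFFalse.{u}) (h : Ln S P n L W Z C A 2) (hn1 : ¬ lev (S : Subgroup G) (n + 1) ≤ o2 P)
    (hF : Fam (BL (S : Subgroup G) n) (ZL (S : Subgroup G) n) (FBlk (BL (S : Subgroup G) n)))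
    (hLM : ∀ i, L i ≤ K0 (ZL (S : Subgroup G) n) (FBlk (BL (S : Subgroup G) n)))
    (hl : ∀ M : Subgroup G, K0 (ZL (S : Subgroup G) n) (FBlk (BL (S : Subgroup G) n)) ≤ M →
      normalizer (BL (S : Subgroup G) n : Set G) ≤ M → o2 M ≠ ⊥ → Low S n M) :
    ∀ R : Subgroup G, IsPGroup 2 R →
      K0 (ZL (S : Subgroup G) n) (FBlk (BL (S : Subgroup G) n)) ≤ normalizer (R : Set G) → R = ⊥ := by
  by_contra hcon
  push Not at hcon
  obtain ⟨R, hR, hRn, hR1⟩ := hcon
  obtain ⟨ho, hoB, hle⟩ := hF.dich (lb S n) hR hR1 hRn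
  set O : Subgroup G := o2 (K0 (ZL (S : Subgroup G) n) (FBlk (BL (S : Subgroup G) n))) with hO
  set M : Subgroup G := normalizer (O : Set G) with hM
  have hK : K0 (ZL (S : Subgroup G) n) (FBlk (BL (S : Subgroup G) n)) ≤ M := le_sup_left.trans hle
  have hN : normalizer (BL (S : Subgroup G) n : Set G) ≤ M := le_sup_right.trans hle
  have hSM : (S : Subgroup G) ≤ M := ((lb S n).two_le S.isPGroup' (lb S n).BS).trans hN
  have hoM : o2 M ≠ ⊥ := by
    intro e
    apply ho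
    have h1 : O ≤ o2 M := le_o2 (isPGroup_o2 _) le_normalizer le_rfl
    rw [e] at h1
    exact le_bot_iff.1 h1
  have hS1 : (S : Subgroup G) ≠ ⊥ := h.hyp.ctx.sylow_ne_bot S
  have h1 := MinPar.isLoc_centralizer_zc S hS1
  have h2 : FrameNOFF.CZ (S : Subgroup G) ≤ M :=
    le_of_char2 hs h (bm_of_low S hK hN (hl M hK hN hoM)) (fun i => (hLM i).trans hK)
      (LevD.cent_le_K0.trans hK) hN ((lb S n).BS.trans h1.le) (h1.char2 S h.hyp.ctx.char2)
  have hP : P ≤ M := by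
    have h3 := LevB.blkGen S h.hyp.toHyp.syl (lb S n).BS h.hyp.star.toIsMinPar
      (h.hyp.star.isLoc.char2 S h.hyp.ctx.char2) h.le hn1
      (fun hc => h.hyp.star.not_zc (hc.trans (centralizer_le_normalizer _)))
    exact h3.trans (sup_le hK hSM)
  exact ho (h.hyp.nonLoc _ (isPGroup_o2 _) hP h2)

end line

end Cfsg.Agent.Omega.OM.SwapL

end

section


/-!
# `SwapL.BG`: minimal parabolics which move `Ω₁Z(T)` are generated by `T` and blocks

`BG.bm`, `BG.low`.
-/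

set_option autoImplicit false

namespace Cfsg.Agent.Omega.OM.SwapL

open Subgroup Cfsg Cfsg.Agent.ZN.ChoiceBase Cfsg.Agent.ZN.ChoiceSit
open Cfsg.Agent.ZN (jj zj bau zc zl o2)
open Cfsg.Agent.MinSimple.MinParabolic (IsMinPar)
open Cfsg.Agent.Omega.NO3S.Level (lev)
open Cfsg.Agent.Omega.OM.LevD (K0)

universe u

variable {G : Type u} [Group G] [Finite G]

/-- Minimal parabolics which move `Ω₁Z(T)` are generated by `T` and blocks: the blocks at stage `n` and LL. -/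
def BG (S : Sylow 2 G) (n : ℕ) (𝓑 : Subgroup G → Subgroup G → Prop) : Prop :=
  ∀ T Y : Subgroup G, Syl T Y → BL (S : Subgroup G) n ≤ T → IsMinPar T Y →
    Y ⊓ centralizer (o2 Y : Set G) ≤ o2 Y →
    LevD.BlkGen (lev (S : Subgroup G) (n + 1)) (ZL (S : Subgroup G) n) 𝓑 T Y

variable {S : Sylow 2 G} {n : ℕ} {𝓑 : Subgroup G → Subgroup G → Prop} {M : Subgroup G}

theorem BG.bm (h : BG S n 𝓑) (hK : K0 (ZL (S : Subgroup G) n) 𝓑 ≤ M)
    (hN : normalizer (BL (S : Subgroup G) n : Set G) ≤ M) : BM S n M := fun T Y hT hB hY hc hn hZ =>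
  (h T Y hT hB hY hc hn hZ).trans (sup_le hK (((lb S n).two_le hT.2.1 hB).trans hN))

theorem BG.low (h : BG S n 𝓑) (hK : K0 (ZL (S : Subgroup G) n) 𝓑 ≤ M)
    (hN : normalizer (BL (S : Subgroup G) n : Set G) ≤ M) : Low S n M := fun T Y hT hB hY hc hn hZ =>
  h.bm hK hN T Y hT hB hY hc
    (fun h1 => hn ((NO3S.Level.lev_le_succ (S : Subgroup G) n).trans h1)) hZ

end Cfsg.Agent.Omega.OM.SwapL

end
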