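import Cfsg.Agent.Mrg.Omega.OM.SwapL.Off
import Cfsg.Agent.Mrg.Omega.OM.Swap.End
import Cfsg.Agent.Mrg.Omega.OM.Lev.Main
import Cfsg.Agent.Mrg.Omega.Node.SymOf
import Cfsg.Agent.Mrg.Omega.OM.Lev.Low.LowMain
import Cfsg.Agent.Mrg.Omega.TC.UniLev
import Cfsg.Agent.Mrg.Omega.NOThree.NoOver

section


/-!
# THEOREM SW: (Om) is impossible for `q = 2`

* `sitFFalse`; `omNeg_two` : the socket `MultiOf.OmNeg K (fun _ q => q = 2)` (no hypothesis);
* `LowTwo K` : **LL**, for `q = 2`, in the local groups `M ≥ K0, N_G(B)`;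
* `nloc` : `K0` normalises no nontrivial 2-subgroup;
* `omLev_two` : the socket `MultiOf.OmLev K (fun _ q => q = 2)`, modulo `LowTwo K`;
* `omOf_two` : `MultiOf.OmOf K (fun _ q => q = 2)`, modulo `LowTwo K`.
-/

set_option autoImplicit false

namespace Cfsg.Agent.Omega.OM.SwapL

open Subgroup Cfsg Cfsg.Agent.ZN.ChoiceBase Cfsg.Agent.ZN.ChoiceSit
open Cfsg.Agent.ZN (jj zj bau zc zl o2)
open Cfsg.Agent.Omega.NO3S (HypN HypL)
open Cfsg.Agent.Omega.NO3S.Level (lev)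
open Cfsg.Agent.Omega.FFThm (NatK NatKM)
open Cfsg.Agent.Omega.FrameFF (cv)
open Cfsg.Agent.Omega.Frame (Cls)
open Cfsg.Agent.Omega.OM.LevD (Fam)
open Cfsg.Agent.Omega.OM.LevB (FBlk)
open Cfsg.Agent.Omega.Node.MultiOf (FBl KZ NLoc OmLev OmNeg OmOf)

universe u

theorem sitFFalse : SitFFalse.{u} := fun _ _ _ _ _ _ _ _ _ _ h => h.false

/-- **(Om), stage `-1`, `q = 2`.** -/
theorem omNeg_two {K : Cls.{u}} : OmNeg K fun _ q => q = 2 :=
  Node.MultiOf.omNeg_two Swap.sitFalse FF.Glob.ffthm FF.Glob.aStmt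

/-- `K0`, over `FBl`. -/
theorem K0_eq {G : Type u} [Group G] (B ZJ : Subgroup G) : LevD.K0 ZJ (FBlk B) = KZ B ZJ := by
  have e : FBlk B = FBl B := by
    funext L V
    exact propext ⟨fun h => ⟨h.fb, h.blk⟩, fun h => ⟨h.fb, h.blk⟩⟩
  rw [e]
  rfl

/-- **LL for `q = 2`** : in a local group `M ≥ K0, N_G(B)` (as in (Om)), the minimal parabolics `Y` of smaller stage over
a 2-group `T ≥ B` which move `Ω₁Z(T)` lie in `M`. -/
def LowTwo (K : Cls.{u}) : Prop :=
  ∀ (G : Type u) [Group G] [Finite G], K G → ∀ (S : Sylow 2 G) (P : Subgroup G) (k : ℕ), HypL S P → ∀ n : ℕ,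
    (∀ R, MinPar.IsParS (S : Subgroup G) R → lev (S : Subgroup G) n ≤ o2 R) →
    ¬ lev (S : Subgroup G) (n + 1) ≤ o2 P → 2 ≤ k →
    ∀ (F : Type) [Field F] [Finite F] [CharP F 2], Nat.card F = 2 →
      NatKM F (S : Subgroup G) P (zl (S : Subgroup G) P) (cv (S : Subgroup G) P) k →
        ∀ M : Subgroup G, KZ (BL (S : Subgroup G) n) (ZL (S : Subgroup G) n) ≤ M →
          normalizer (BL (S : Subgroup G) n : Set G) ≤ M → o2 M ≠ ⊥ → Low S n M

/-- **(Om) is impossible for `q = 2`, at stage `n`.** -/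
theorem nloc {K : Cls.{u}} (hl : LowTwo K) {G : Type u} [Group G] [Finite G] (hK : K G)
    {S : Sylow 2 G} {P : Subgroup G} {k : ℕ} (h : HypL S P) {n : ℕ}
    (hall : ∀ R, MinPar.IsParS (S : Subgroup G) R → lev (S : Subgroup G) n ≤ o2 R)
    (hn1 : ¬ lev (S : Subgroup G) (n + 1) ≤ o2 P) (hk : 2 ≤ k)
    {F : Type} [Field F] [Finite F] [CharP F 2] (hF : Nat.card F = 2)
    (N : NatKM F (S : Subgroup G) P (zl (S : Subgroup G) P) (cv (S : Subgroup G) P) k) :
    NLoc (KZ (BL (S : Subgroup G) n) (ZL (S : Subgroup G) n)) := by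
  obtain ⟨M, L, Z, A, -, hFr, hBg, -⟩ := Lev.Main.bg_lev h.toHypN (hall P h.star) hn1 hk N
    (B := BL (S : Subgroup G) n) rfl
  rw [hF] at hFr hBg
  have hm : Node.MultiOf.Mul S P (lev (S : Subgroup G) (n + 1)) (BL (S : Subgroup G) n) (ZL (S : Subgroup G) n)
      L _ Z _ 2 :=
    ⟨h, Node.MultiOf.StgP.lev n hall (hall P h.star) hn1, hBg, F, inferInstance, inferInstance, inferInstance, hF,
      ⟨N⟩⟩
  have hln : Ln S P n L _ Z _ A 2 := ⟨h.toHypN, hall P h.star, hFr, hBg.two⟩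
  have hfam : Fam (BL (S : Subgroup G) n) (ZL (S : Subgroup G) n) (FBlk (BL (S : Subgroup G) n)) := by
    have e : FBlk (BL (S : Subgroup G) n) = FBl (BL (S : Subgroup G) n) := by
      funext L V
      exact propext ⟨fun h => ⟨h.fb, h.blk⟩, fun h => ⟨h.fb, h.blk⟩⟩
    rw [e]
    exact hm.fam
  have h1 := noOm sitFFalse hln hn1 hfam (fun i => by rw [K0_eq]; exact hm.L_le i) fun M hM hN ho => by
    rw [K0_eq] at hM
    exact hl G hK S P k h n hall hn1 hk F hF N M hM hN ho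
  rw [K0_eq] at h1
  exact h1

/-- **(Om), stage `n`, `q = 2`.** -/
theorem omLev_two {K : Cls.{u}} (hl : LowTwo K) : OmLev K fun _ q => q = 2 := by
  intro G _ _ hK S P k h n hall hn1 hk F _ _ _ hF N B ZJ hZJ hB ho
  subst hZJ hB
  exact absurd (nloc hl hK h hall hn1 hk hF N _ (isPGroup_o2 _) (le_normalizer_o2 _)) ho

/-- **(Om), `q = 2`.** -/
theorem omOf_two {K : Cls.{u}} (hl : LowTwo K) : OmOf K fun _ q => q = 2 :=
  Node.MultiOf.omOf_of omNeg_two (omLev_two hl)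

end Cfsg.Agent.Omega.OM.SwapL

end

section


/-!
# NO-3S, (Om), symmetric types: THEOREM SW in the form of the sockets (natural types: `OM/SwapL/Main.lean`, helper590)

* `omNegS K c : OmNegS K c` (no hypothesis);
* `LowS K c` : **LL** for symmetric types, in the local groups `M ≥ K0, N_G(B)`;
* `omLevS : LowS K c → OmLevS K c`, `omS : LowS K c → OmS K c`;
* `lowS_of_bg`, `lowTwo_of_bg` : `LowS`, `LowTwo` from `SwapL.BG`.
-/

set_option autoImplicit false

namespace Cfsg.Agent.Omega.Node.OmLevOf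

open Subgroup Cfsg Cfsg.Agent.ZN.ChoiceBase Cfsg.Agent.ZN.ChoiceSit
open Cfsg.Agent.ZN (jj zj bau zc zl o2)
open Cfsg.Agent.Omega.FFThm (NatK NatKM SymK SymKM)
open Cfsg.Agent.Omega.FrameFF (cv)
open Cfsg.Agent.Omega.NO3S (HypL HypN HypJ Hyp PSS)
open Cfsg.Agent.Omega.NO3S.Level (lev lev_isLev)
open Cfsg.Agent.Omega.Frame (Cls)
open Cfsg.Agent.Omega.OM
open Cfsg.Agent.Omega.OM.LevD (Fam)
open Cfsg.Agent.Omega.OM.LevB (FBlk)
open Cfsg.Agent.Omega.OM.SwapL (BL ZL Ln Low BG SitFFalse sitFFalse K0_eq LowTwo)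
open Cfsg.Agent.Omega.Node.MultiOf Cfsg.Agent.Omega.Node.SymOf

universe u

theorem fblk_eq {G : Type u} [Group G] (B : Subgroup G) : FBlk B = FBl B := by
  funext L V
  exact propext ⟨fun h => ⟨h.fb, h.blk⟩, fun h => ⟨h.fb, h.blk⟩⟩

section one

variable {G : Type u} [Group G] [Finite G] {S : Sylow 2 G} {P : Subgroup G} {n : ℕ} {ι : Type} [Finite ι]
  {L W Z C A : ι → Subgroup G}

/-- **(Om) is impossible at stage `n`, `q = 2`**, frame level. -/
theorem noOm_lev (h : Ln S P n L W Z C A 2) (hn1 : ¬ lev (S : Subgroup G) (n + 1) ≤ o2 P)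
    (hF : Fam (BL (S : Subgroup G) n) (ZL (S : Subgroup G) n) (FBl (BL (S : Subgroup G) n)))
    (hL : ∀ i, FBl (BL (S : Subgroup G) n) (L i) (W i))
    (hl : ∀ M : Subgroup G, KZ (BL (S : Subgroup G) n) (ZL (S : Subgroup G) n) ≤ M →
      normalizer (BL (S : Subgroup G) n : Set G) ≤ M → o2 M ≠ ⊥ → Low S n M) :
    NLoc (KZ (BL (S : Subgroup G) n) (ZL (S : Subgroup G) n)) := by
  have hfam : Fam (BL (S : Subgroup G) n) (ZL (S : Subgroup G) n) (FBlk (BL (S : Subgroup G) n)) := by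
    rw [fblk_eq]
    exact hF
  have h1 := SwapL.noOm sitFFalse h hn1 hfam (fun i => by rw [K0_eq]; exact LevD.blk_le_K0 (hL i)) fun M hM hN ho => by
    rw [K0_eq] at hM
    exact hl M hM hN ho
  rw [K0_eq] at h1
  exact h1

end one

section sockets

variable (K : Cls.{u})

/-- **LL for symmetric types** : in a local group `M ≥ K0, N_G(B)` (as in (Om)), the minimal parabolics `Y` of smaller
stage over a 2-group `T ≥ B` which move `Ω₁Z(T)` lie in `M`. -/
def LowS (c : ℕ → ℕ → Prop) : Prop :=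
  ∀ (G : Type u) [Group G] [Finite G], K G → ∀ (S : Sylow 2 G) (P : Subgroup G) (k m : ℕ), HypL S P → ∀ n : ℕ,
    (∀ R, MinPar.IsParS (S : Subgroup G) R → lev (S : Subgroup G) n ≤ o2 R) →
    ¬ lev (S : Subgroup G) (n + 1) ≤ o2 P → 0 < k → 2 ≤ m → c k m →
      SymKM (S : Subgroup G) P (zl (S : Subgroup G) P) (cv (S : Subgroup G) P) k m →
        ∀ M : Subgroup G, KZ (BL (S : Subgroup G) n) (ZL (S : Subgroup G) n) ≤ M →
          normalizer (BL (S : Subgroup G) n : Set G) ≤ M → o2 M ≠ ⊥ → Low S n M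

/-- **(Om) is impossible at stage `-1`, symmetric types.** -/
theorem omNegS (c : ℕ → ℕ → Prop) : OmNegS K c := SymOf.omNegS Swap.sitFalse FF.Glob.ffthm FF.Glob.aStmt c

end sockets

variable {K : Cls.{u}}

/-- (Om), stage `n`, symmetric types. -/
theorem omLevS {c : ℕ → ℕ → Prop} (hl : LowS K c) : OmLevS K c := by
  intro G _ _ hK S P k m h n hall hn1 hk hm hc N B ZJ eZ eB ho
  subst eZ
  subst eB
  obtain ⟨ι, hι, W, d, t, r, L, A, -, -, -, -, h2, hFr⟩ := Lev.Sym.exists_sym_lev FF.Glob.ffthmM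
      h.toHyp.ctx.char2 h.star (lev_isLev (S : Subgroup G) n) (hall P h.star) h.toHyp.inf_eq_bot
      (NO3S.exists_BO h.toHyp.ctx.char2 h.star (hall P h.star) hn1) hk hm N
  have hM : MulS S P _ _ _ L W _ _ k m :=
    ⟨h, StgP.lev n hall (hall P h.star) hn1, ⟨N⟩, Lev.Main.toFg hFr, hι, h2⟩
  have hln : Ln S P n L W _ _ A 2 := ⟨h.toHypN, hall P h.star, hFr, h2⟩
  have h1 := noOm_lev hln hn1 hM.fam hM.fbl (hl G hK S P k m h n hall hn1 hk hm hc N)
  exact absurd (h1 _ (isPGroup_o2 _) (le_normalizer_o2 _)) ho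

/-- **(Om), symmetric types, all stages.** -/
theorem omS {c : ℕ → ℕ → Prop} (hl : LowS K c) : OmS K c := omS_of (omNegS K c) (omLevS hl)

/-- `LowS` from `SwapL.BG`. -/
theorem lowS_of_bg {c : ℕ → ℕ → Prop} (h : ∀ (G : Type u) [Group G] [Finite G], K G →
    ∀ (S : Sylow 2 G) (P : Subgroup G) (k m : ℕ), HypL S P → ∀ n : ℕ,
    (∀ R, MinPar.IsParS (S : Subgroup G) R → lev (S : Subgroup G) n ≤ o2 R) →
    ¬ lev (S : Subgroup G) (n + 1) ≤ o2 P → 0 < k → 2 ≤ m → c k m →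
      SymKM (S : Subgroup G) P (zl (S : Subgroup G) P) (cv (S : Subgroup G) P) k m →
        BG S n (FBl (BL (S : Subgroup G) n))) : LowS K c :=
  fun G _ _ hK S P k m hP n hall hn1 hk hm hc N _ hM hN _ =>
    (h G hK S P k m hP n hall hn1 hk hm hc N).low hM hN

/-- `LowTwo` from `SwapL.BG`. -/
theorem lowTwo_of_bg (h : ∀ (G : Type u) [Group G] [Finite G], K G →
    ∀ (S : Sylow 2 G) (P : Subgroup G) (k : ℕ), HypL S P → ∀ n : ℕ,
    (∀ R, MinPar.IsParS (S : Subgroup G) R → lev (S : Subgroup G) n ≤ o2 R) →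
    ¬ lev (S : Subgroup G) (n + 1) ≤ o2 P → 2 ≤ k →
    ∀ (F : Type) [Field F] [Finite F] [CharP F 2], Nat.card F = 2 →
      NatKM F (S : Subgroup G) P (zl (S : Subgroup G) P) (cv (S : Subgroup G) P) k →
        BG S n (FBl (BL (S : Subgroup G) n))) : LowTwo K :=
  fun G _ _ hK S P k hP n hall hn1 hk F _ _ _ hF N _ hM hN _ =>
    (h G hK S P k hP n hall hn1 hk F hF N).low hM hN

end Cfsg.Agent.Omega.Node.OmLevOf

end

section


/-!
# (LL), `q = 2`, natural type: the plug `LowTwo K`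

`(T, Y)`, `T ≥ B = C_S(Z_J)` a Sylow 2-subgroup of the minimal parabolic `Y` of characteristic 2 which moves `Ω₁Z(T)`.

* `exists_cj_le` : `T` is conjugate under `N_G(B)` to a subgroup of `S`;
* `le_of_syl` : if `T` is a Sylow 2-subgroup of `G` then `lev S n ≤ O₂(Y)` (from the hypothesis on `P*(S)`);
* `eq_B` : `k = 2`: `T = B` or `|T| = |S|`.
-/

set_option autoImplicit false
set_option linter.unusedSectionVars false

namespace Cfsg.Agent.Omega.OM.Lev.Low

open Subgroup Cfsg Cfsg.Agent.ZN.ChoiceBase Cfsg.Agent.ZN.ChoiceSit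
open Cfsg.Agent.ZN (jj zj bau zc zl o2)
open Cfsg.Agent.MinSimple.MinParabolic (IsMinPar)
open Cfsg.Agent.Omega.FFThm (NatKM SymKM)
open Cfsg.Agent.Omega.FrameFF (cv)
open Cfsg.Agent.Omega.MinPar (IsParS)
open Cfsg.Agent.Omega.OM.Lev.Uni (FrL)
open Cfsg.Agent.Omega.OM.SwapL (Ln ZL BL)
open Cfsg.Agent.Omega.NO3S.Level (lev lev_isLev lev_le)

universe u

variable {G : Type u} [Group G] [Finite G]

/-- `T` is conjugate under `N_G(B)` to a subgroup of `S`. -/
theorem exists_cj_le (S : Sylow 2 G) {n : ℕ} {T : Subgroup G} (hT : IsPGroup 2 T)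
    (hB : BL (S : Subgroup G) n ≤ T) :
    ∃ g ∈ normalizer (BL (S : Subgroup G) n : Set G), cj g T ≤ S := by
  obtain ⟨R, hR⟩ := hT.exists_le_sylow
  obtain ⟨x, hx⟩ := MulAction.exists_smul_eq G S R
  have hRx : (R : Subgroup G) = cj x (S : Subgroup G) := by rw [← hx, Sylow.coe_subgroup_smul]; rfl
  rw [hRx] at hR
  have h1 : cj x⁻¹ T ≤ S := by
    have := cj_mono x⁻¹ hR
    rwa [cj_inv_cj] at this
  refine ⟨x⁻¹, mem_normalizer_iff_cj.2 ?_, h1⟩
  exact SwapL.wc S n (S : Subgroup G) S.isPGroup' (SwapL.lb S n).BS x⁻¹ ((cj_mono _ hB).trans h1)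

/-- A minimal parabolic which normalises `Ω₁Z(T)` centralises it. -/
theorem le_cent_of_norm {T Y : Subgroup G} (hT : Syl T Y) (hP : IsMinPar T Y)
    (h : Y ≤ normalizer (zc T : Set G)) : Y ≤ centralizer (zc T : Set G) := by
  have : Fact (Nat.Prime 2) := ⟨Nat.prime_two⟩
  have hN : Y ≤ normalizer ((Y ⊓ centralizer (zc T : Set G) : Subgroup G) : Set G) := by
    intro y hy
    rw [mem_normalizer_iff_cj, cj_inf, cj_centralizer, cj_eq_of_mem_normalizer (h hy),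
      cj_eq_of_mem_normalizer (le_normalizer hy)]
  have hTc : T ≤ centralizer (zc T : Set G) := NO3S.Level.le_centralizer_zc T
  rcases hP.sup_eq_or_inf_le hT.2.1 (syl_not_dvd hT) inf_le_left hN with h1 | h1
  · have h2 : T ≤ Y ⊓ centralizer (zc T : Set G) := le_inf hP.le hTc
    rw [sup_eq_left.2 h2] at h1
    exact inf_eq_left.1 h1
  · exfalso
    rw [inf_eq_left.2 (le_inf hP.le hTc)] at h1
    refine hP.not_le ?_
    have h2 : T = o2 Y := le_antisymm h1 (o2_le_syl hT)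
    rw [h2]
    exact le_normalizer_o2 Y

/-- **`T` Sylow in `G`.** -/
theorem le_of_syl (S : Sylow 2 G) {n : ℕ}
    (hall : ∀ R, IsParS (S : Subgroup G) R → lev (S : Subgroup G) n ≤ o2 R) {T Y : Subgroup G} (hT : Syl T Y)
    (hB : BL (S : Subgroup G) n ≤ T) (hcard : Nat.card S ≤ Nat.card T) (hP : IsMinPar T Y)
    (hc : Y ⊓ centralizer (o2 Y : Set G) ≤ o2 Y) (hZ : ¬ Y ≤ centralizer (zc T : Set G)) :
    lev (S : Subgroup G) n ≤ o2 Y := by
  obtain ⟨g, hg, hgT⟩ := exists_cj_le S hT.2.1 hB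
  have hS : cj g T = (S : Subgroup G) := Subgroup.eq_of_le_of_card_ge hgT (by rw [card_cj]; exact hcard)
  have hlev : cj g (lev (S : Subgroup G) n) = lev (S : Subgroup G) n :=
    mem_normalizer_iff_cj.1 (SwapL.norm_lev S (by omega) hg)
  have h1 : IsParS (S : Subgroup G) (cj g Y) := by
    have h2 : IsMinPar (S : Subgroup G) (cj g Y) := by
      rw [← hS]
      exact NOThree.NoOver.isMinPar_cj g hP
    have h3 : o2 (cj g Y) ≠ ⊥ := by
      intro e
      rw [← MinSimple.Geo.cj_o2] at e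
      have e1 : o2 Y = ⊥ := by
        have := congrArg (cj g⁻¹) e
        rw [cj_inv_cj] at this
        rw [this]
        exact map_bot _
      rw [e1] at hc
      apply hZ
      have h4 : Y = ⊥ := le_bot_iff.1 (le_trans (le_inf le_rfl (fun y _ => by
        rw [mem_centralizer_iff]
        rintro x hx
        have hx' : x = 1 := hx
        rw [hx']
        simp)) hc)
      rw [h4]
      exact bot_le
    refine ⟨⟨h2, h3⟩, fun h5 => hZ (le_cent_of_norm hT hP ?_)⟩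
    intro y hy
    have h6 := h5 ⟨y, hy, rfl⟩
    rw [mem_normalizer_iff_cj, ← hS, NO3S.Level.zc_cj] at h6
    rw [mem_normalizer_iff_cj]
    have e2 : (MulAut.conj g).toMonoidHom y = g * y * g⁻¹ := rfl
    rw [e2, cj_cj] at h6
    have h7 := congrArg (cj g⁻¹) h6
    rw [cj_cj, cj_inv_cj] at h7
    rwa [show g⁻¹ * (g * y * g⁻¹ * g) = y by group] at h7
  have h3 := hall _ h1
  rw [← hlev, ← MinSimple.Geo.cj_o2] at h3
  have h4 := cj_mono g⁻¹ h3
  rwa [cj_inv_cj, cj_inv_cj] at h4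

/-- `k = 2`, `q = 2`: only `B` and `S` lie between `B` and `S`. -/
theorem eq_B {S : Sylow 2 G} {P B ZJ : Subgroup G} {L W Z C : Fin 2 → Subgroup G}
    (h : NO3S.EThree.Frame.Bg S P B ZJ L W Z C 2) {T : Subgroup G} (hB : B ≤ T) (hT : T ≤ (S : Subgroup G)) :
    T = B ∨ T = S := by
  by_cases h1 : T ≤ normalizer (Z 0 : Set G)
  · left
    refine le_antisymm ?_ hB
    rw [← TC.UniLev.T_eq h]
    exact le_inf hT h1
  · right
    refine le_antisymm hT fun t ht => ?_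
    obtain ⟨s, hs, hsn⟩ := SetLike.not_le_iff_exists.1 h1
    have key : ∀ x ∈ (S : Subgroup G), x ∉ normalizer (Z 0 : Set G) → cj x (Z 0) = Z 1 := by
      intro x hx hxn
      obtain ⟨σ, hσ⟩ := h.perm_S hx
      have h2 := (hσ 0).2.1
      have h3 : σ 0 ≠ 0 := fun e => hxn (mem_normalizer_iff_cj.2 (by rw [h2, e]))
      have h4 : ∀ a : Fin 2, a ≠ 0 → a = 1 := by decide
      rw [h2, h4 _ h3]
    have hTn : ∀ x ∈ (S : Subgroup G), x ∈ normalizer (Z 0 : Set G) → x ∈ T := fun x hx hxn =>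
      hB (by rw [← TC.UniLev.T_eq h]; exact ⟨hx, hxn⟩)
    by_cases h5 : t ∈ normalizer (Z 0 : Set G)
    · exact hTn t ht h5
    · have h6 : s⁻¹ * t ∈ T := by
        refine hTn _ (mul_mem (inv_mem (hT hs)) ht) (mem_normalizer_iff_cj.2 ?_)
        rw [← cj_cj, key t ht h5, ← key s (hT hs) hsn, cj_inv_cj]
      have h7 := mul_mem hs h6
      rwa [mul_inv_cancel_left] at h7

/-- `k = 2`, `q = 2`: `T = B` or `T` is a Sylow 2-subgroup of `G`. -/
theorem eq_or {S : Sylow 2 G} {P : Subgroup G} {n : ℕ} {L W Z C : Fin 2 → Subgroup G}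
    (h : NO3S.EThree.Frame.Bg S P (BL (S : Subgroup G) n) (ZL (S : Subgroup G) n) L W Z C 2) {T : Subgroup G}
    (hT : IsPGroup 2 T) (hB : BL (S : Subgroup G) n ≤ T) :
    T = BL (S : Subgroup G) n ∨ Nat.card S ≤ Nat.card T := by
  obtain ⟨g, hg, hgT⟩ := exists_cj_le S hT hB
  have hBg : cj g (BL (S : Subgroup G) n) = BL (S : Subgroup G) n := mem_normalizer_iff_cj.1 hg
  have h1 : BL (S : Subgroup G) n ≤ cj g T := by
    rw [← hBg]
    exact cj_mono g hB
  rcases eq_B h h1 hgT with h2 | h2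
  · left
    have h3 := congrArg (cj g⁻¹) (h2.trans hBg.symm)
    rwa [cj_inv_cj, cj_inv_cj] at h3
  · right
    have h3 : Nat.card (cj g T) = Nat.card S := by rw [h2]
    rw [card_cj] at h3
    exact h3.ge

end Cfsg.Agent.Omega.OM.Lev.Low

end

section


/-!
# TORUS, `q = 2`, (W) and (L) (helper607 #23961)

`FrL B Q V X ZJ L W Z C A 2`, `c ≤ V` a subgroup of order `4` (the line of a block `K` of natural type over `𝔽₄` of a
parabolic of lower stage), `N = C_X(K)`, `τ` an element of `K` which acts on `c` without fixed points and centralises `N`.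

* `exists_cj_ZJ` : every element of `V` is conjugate to an element of `Z_J` with the same support;
* `full_V` : (W) for elements of `V`;
* `line` : **(L)**: `c = W l` for one `l` and `W m ≤ N` for `m ≠ l`;
* `full_of_conj` : **(W)**: a conjugate in `Z_J` of an element of `Z_J` of full support has full support.
-/

set_option autoImplicit false
set_option linter.unusedSectionVars false

namespace Cfsg.Agent.Omega.OM.Lev.Low.Line

open Subgroup Cfsg Cfsg.Agent.ZN.ChoiceBase Cfsg.Agent.ZN.ChoiceSit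
open Cfsg.Agent.ZN (jj zj bau zc zl o2)
open Cfsg.Agent.Omega.OM.Lev.Uni (FrL)
open Cfsg.Agent.Omega.OM.SwapL (Ln ZL BL)
open Cfsg.Agent.Omega.SQ1.Bau (elem_comm elem_sq)

universe u

variable {G : Type u} [Group G] {ι : Type*} {B Q V X ZJ : Subgroup G} {L W Z C A : ι → Subgroup G}

/-- full support -/
def Full (C : ι → Subgroup G) (v : G) : Prop := ∀ i, v ∉ C i

/-- `L i` is transitive on `W i` and centralises `C i` -/
def Tr (W Z C : ι → Subgroup G) : Prop :=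
  ∀ i, ∀ x ∈ W i, x ≠ 1 → ∃ l : G, (∀ y ∈ C i, l * y = y * l) ∧ ∃ z ∈ Z i, l * z * l⁻¹ = x

theorem two_lt_card {H : Subgroup G} [Finite G] {a b c : G} (ha : a ∈ H) (hb : b ∈ H) (hc : c ∈ H) (hab : a ≠ b)
    (hac : a ≠ c) (hbc : b ≠ c) : 2 < Nat.card H := by
  let f : Fin 3 → H := ![⟨a, ha⟩, ⟨b, hb⟩, ⟨c, hc⟩]
  have hf : Function.Injective f := by
    intro x y hxy
    fin_cases x <;> fin_cases y <;> simp [f, Subtype.ext_iff] at hxy ⊢ <;> first
      | exact absurd hxy hab | exact absurd hxy.symm hab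
      | exact absurd hxy hac | exact absurd hxy.symm hac
      | exact absurd hxy hbc | exact absurd hxy.symm hbc
  have := Nat.card_le_card_of_injective f hf
  rw [Nat.card_eq_fintype_card, Fintype.card_fin] at this
  omega

theorem eq_four {n : ℕ} (h : n ∣ 4) (h2 : 2 < n) : n = 4 := by
  obtain ⟨k, hk⟩ := h
  rcases k with _ | _ | k
  · omega
  · omega
  · nlinarith

section base

variable (h : FrL B Q V X ZJ L W Z C A 2)
include h

theorem mc {v w : G} (hv : v ∈ V) (hw : w ∈ V) : v * w = w * v := h.Vc hv hw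

theorem mi {v : G} (hv : v ∈ V) : v * v = 1 := by
  rw [← pow_two]
  exact elem_sq h.elX v (h.VX hv)

theorem inv_eq {v : G} (hv : v ∈ V) : v⁻¹ = v := inv_eq_of_mul_eq_one_left (mi h hv)

/-- an element of `W i ∩ C i` is trivial -/
theorem one_of {i : ι} {x : G} (h1 : x ∈ W i) (h2 : x ∈ C i) : x = 1 := by
  have h3 : x ∈ W i ⊓ C i := ⟨h1, h2⟩
  rwa [h.dir i, mem_bot] at h3

theorem mul_mem_C {i j : ι} (hij : i ≠ j) {w x : G} (hw : w ∈ W j) : w * x ∈ C i ↔ x ∈ C i :=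
  mul_mem_cancel_left (h.WjC i j hij hw)

/-- `Z i = {1, z}` -/
theorem Z_two {i : ι} {z z' : G} (hz : z ∈ Z i) (hz1 : z ≠ 1) (hz' : z' ∈ Z i) (hz1' : z' ≠ 1) : z = z' := by
  have h1 : Nat.card (Z i) = 2 := h.cardZ i
  have hf : Finite (Z i) := Nat.finite_of_card_ne_zero (by omega)
  obtain ⟨a, b, hab, hab2⟩ := Nat.card_eq_two_iff.1 h1
  have key : ∀ x : Z i, x = a ∨ x = b := fun x => by
    have : x ∈ ({a, b} : Set (Z i)) := by rw [hab2]; trivial
    simpa using this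
  by_contra hne
  have h2 := key ⟨z, hz⟩
  have h3 := key ⟨z', hz'⟩
  have h4 := key 1
  have e1 : (⟨z, hz⟩ : Z i) ≠ ⟨z', hz'⟩ := fun e => hne (congrArg Subtype.val e)
  have e2 : (⟨z, hz⟩ : Z i) ≠ 1 := fun e => hz1 (congrArg Subtype.val e)
  have e3 : (⟨z', hz'⟩ : Z i) ≠ 1 := fun e => hz1' (congrArg Subtype.val e)
  rcases h2 with h2 | h2 <;> rcases h3 with h3 | h3 <;> rcases h4 with h4 | h4 <;>
    simp_all

theorem exists_z (i : ι) : ∃ z ∈ Z i, z ≠ 1 := by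
  have h1 : Nat.card (Z i) = 2 := h.cardZ i
  have hf : Finite (Z i) := Nat.finite_of_card_ne_zero (by omega)
  have : Nontrivial (Z i) := Finite.one_lt_card_iff_nontrivial.1 (by omega)
  obtain ⟨z, hz⟩ := exists_ne (1 : Z i)
  exact ⟨z, z.2, fun h => hz (Subtype.ext h)⟩

theorem ZW (i : ι) : Z i ≤ W i := (h.blk i).ZV

/-- if all components lie in the `Z i`, then `v ∈ ZJ` -/
theorem mem_ZJ_of {v : G} (hv : v ∈ V) (hcmp : ∀ i, ∃ a ∈ Z i, ∃ b ∈ C i, v = a * b) : v ∈ ZJ := by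
  refine (h.mem_ZJ v).2 ⟨hv, fun b hb => ?_⟩
  have hbV : b * v * b⁻¹ ∈ V := by
    rcases isEmpty_or_nonempty ι with hι | ⟨⟨i⟩⟩
    · have h1 : v = 1 := h.C0 v hv fun i => hι.elim i
      rw [h1]
      simp [one_mem]
    · exact h.LV i b ((h.blk i).BL hb) v hv
  have h1 : b * v * b⁻¹ * v⁻¹ = 1 := by
    refine h.C0 _ (mul_mem hbV (inv_mem hv)) fun i => ?_
    obtain ⟨a, ha, c, hc, rfl⟩ := hcmp i
    have h2 := (h.blk i).cZ b hb a ha
    have h3 := h.BC i b hb c hc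
    have e : b * (a * c) * b⁻¹ * (a * c)⁻¹ = (b * c * b⁻¹) * c⁻¹ := by
      have e1 : b * (a * c) * b⁻¹ = (b * c * b⁻¹) * a := by
        have e2 : b * (a * c) * b⁻¹ = a * (b * c * b⁻¹) := by
          calc b * (a * c) * b⁻¹ = (b * a) * c * b⁻¹ := by group
            _ = a * (b * c * b⁻¹) := by rw [h2]; group
        rw [e2]
        exact mc h (h.ZV i ha) (h.CV i h3)
      rw [e1, mul_inv_rev]
      have e3 : b * c * b⁻¹ * a * (c⁻¹ * a⁻¹) = b * c * b⁻¹ * (a * c⁻¹) * a⁻¹ := by group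
      rw [e3, mc h (h.ZV i ha) (inv_mem (h.CV i hc))]
      group
    rw [e]
    exact mul_mem h3 (inv_mem hc)
  exact mul_inv_eq_iff_eq_mul.1 (mul_inv_eq_one.1 h1)

/-- the components of an element of `ZJ` -/
theorem ZJ_cmp {v : G} (hv : v ∈ ZJ) (i : ι) : ∃ a ∈ Z i, ∃ b ∈ C i, v = a * b := by
  obtain ⟨w, hw, c, hc, -, e⟩ := h.split_ZJ i hv
  exact ⟨w, hw, c, hc, e⟩

/-- every element of `V` is conjugate to an element of `Z_J` with the same support -/
theorem exists_cj_ZJ [Finite ι] (htr : Tr W Z C) {v : G} (hv : v ∈ V) :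
    ∃ g : G, g * v * g⁻¹ ∈ ZJ ∧ ∀ i, g * v * g⁻¹ ∈ C i ↔ v ∈ C i := by
  have key : ∀ s : Set ι, s.Finite → ∃ g : G, g * v * g⁻¹ ∈ V ∧ (∀ i, g * v * g⁻¹ ∈ C i ↔ v ∈ C i) ∧
      ∀ i ∈ s, ∃ a ∈ Z i, ∃ b ∈ C i, g * v * g⁻¹ = a * b := by
    intro s hs
    induction s, hs using Set.Finite.induction_on with
    | empty =>
      refine ⟨1, by simpa using hv, fun i => by simp, fun i hi => absurd hi (Set.notMem_empty i)⟩
    | @insert i s hi _ ih =>
      obtain ⟨g, hg, hgC, hgs⟩ := ih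
      obtain ⟨w, hw, c, hc, e⟩ := h.WC i _ hg
      by_cases hw1 : w = 1
      · refine ⟨g, hg, hgC, fun j hj => ?_⟩
        rcases hj with rfl | hj
        · exact ⟨1, one_mem _, c, hc, by rw [e, hw1]⟩
        · exact hgs j hj
      · obtain ⟨l, hl, z, hz, hlz⟩ := htr i w hw hw1
        have hz1 : z ≠ 1 := by
          rintro rfl
          apply hw1
          rw [← hlz]
          simp
        have e1 : (l⁻¹ * g) * v * (l⁻¹ * g)⁻¹ = z * c := by
          have e2 : (l⁻¹ * g) * v * (l⁻¹ * g)⁻¹ = l⁻¹ * (g * v * g⁻¹) * l := by group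
          rw [e2, e, ← hlz]
          have e3 : c * l = l * c := (hl c hc).symm
          calc l⁻¹ * (l * z * l⁻¹ * c) * l = z * l⁻¹ * (c * l) := by group
            _ = z * c := by rw [e3]; group
        have hzV : z ∈ V := h.ZV i hz
        have hcV : c ∈ V := h.CV i hc
        have e4 : z * c = z * w⁻¹ * (g * v * g⁻¹) := by rw [e]; group
        refine ⟨l⁻¹ * g, by rw [e1]; exact mul_mem hzV hcV, fun j => ?_, fun j hj => ?_⟩
        · rw [e1, ← hgC j, e]
          by_cases hji : j = i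
          · subst hji
            constructor
            · intro h1
              exact absurd (one_of h (ZW h j hz) ((mul_mem_cancel_right hc).1 h1)) hz1
            · intro h1
              exact absurd (one_of h hw ((mul_mem_cancel_right hc).1 h1)) hw1
          · rw [mul_mem_C h hji (ZW h i hz), mul_mem_C h hji hw]
        · rw [e1]
          by_cases hji : j = i
          · subst hji
            exact ⟨z, hz, c, hc, rfl⟩
          · have hjs : j ∈ s := by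
              rcases hj with hj | hj
              · exact absurd hj hji
              · exact hj
            obtain ⟨a, ha, b, hb, e5⟩ := hgs j hjs
            have h6 : z * w⁻¹ ∈ C j := h.WjC j i hji (mul_mem (ZW h i hz) (inv_mem hw))
            refine ⟨a, ha, z * w⁻¹ * b, mul_mem h6 hb, ?_⟩
            rw [e4, e5]
            have h7 := mc h (h.CV j h6) (h.ZV j ha)
            calc z * w⁻¹ * (a * b) = (z * w⁻¹ * a) * b := by group
              _ = (a * (z * w⁻¹)) * b := by rw [h7]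
              _ = _ := by group
  obtain ⟨g, hg, hgC, hgs⟩ := key Set.univ (Set.toFinite _)
  exact ⟨g, mem_ZJ_of h hg fun i => hgs i (Set.mem_univ i), hgC⟩

/-- (W) for elements of `V` -/
theorem full_V [Finite ι] (htr : Tr W Z C)
    (hW : ∀ z ∈ ZJ, ∀ g : G, g * z * g⁻¹ ∈ ZJ → Full C z → Full C (g * z * g⁻¹)) {v g : G} (hv : v ∈ V)
    (hg : g * v * g⁻¹ ∈ V) (hf : Full C v) : Full C (g * v * g⁻¹) := by
  obtain ⟨a, ha, haC⟩ := exists_cj_ZJ h htr hv
  obtain ⟨b, hb, hbC⟩ := exists_cj_ZJ h htr hg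
  have e : (b * g * a⁻¹) * (a * v * a⁻¹) * (b * g * a⁻¹)⁻¹ = b * (g * v * g⁻¹) * b⁻¹ := by group
  have h1 := hW _ ha (b * g * a⁻¹) (by rw [e]; exact hb) fun i hi => hf i ((haC i).1 hi)
  rw [e] at h1
  exact fun i hi => h1 i ((hbC i).2 hi)

/-- an element of `ZJ` of full support -/
theorem exists_full [Finite ι] : ∃ z ∈ ZJ, Full C z := by
  have key : ∀ s : Set ι, s.Finite → ∃ z ∈ ZJ, (∀ i ∈ s, z ∉ C i) ∧ ∀ i ∉ s, z ∈ C i := by
    intro s hs
    induction s, hs using Set.Finite.induction_on with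
    | empty => exact ⟨1, one_mem _, fun i hi => absurd hi (Set.notMem_empty i), fun i _ => one_mem _⟩
    | @insert i s hi _ ih =>
      obtain ⟨z, hz, h1, h2⟩ := ih
      obtain ⟨w, hw, hw1⟩ := exists_z h i
      refine ⟨w * z, mul_mem (h.Z_le i hw) hz, fun j hj => ?_, fun j hj => ?_⟩
      · by_cases hji : j = i
        · subst hji
          intro h3
          exact hw1 (one_of h (ZW h j hw) ((mul_mem_cancel_right (h2 j hi)).1 h3))
        · rw [mul_mem_C h hji (ZW h i hw)]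
          rcases hj with hj | hj
          · exact absurd hj hji
          · exact h1 j hj
      · have hji : j ≠ i := fun e => hj (Or.inl e)
        rw [mul_mem_C h hji (ZW h i hw)]
        exact h2 j fun e => hj (Or.inr e)
  obtain ⟨z, hz, h1, -⟩ := key Set.univ (Set.toFinite _)
  exact ⟨z, hz, fun i => h1 i (Set.mem_univ i)⟩

/-- `ZJ ∩ C l ≤ N` if `Z m ≤ N` for `m ≠ l` -/
theorem ZJ_C_le [Finite ι] {l : ι} {N : Subgroup G} (hN : ∀ m, m ≠ l → Z m ≤ N) {x : G} (hx : x ∈ ZJ)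
    (hxC : x ∈ C l) : x ∈ N := by
  classical
  have h1 : ZJ ≤ Z l ⊔ (N ⊓ C l) := by
    refine zj_le h fun i => ?_
    by_cases hi : i = l
    · rw [hi]; exact le_sup_left
    · exact (le_inf (hN i hi) ((ZW h i).trans (h.WjC l i (Ne.symm hi)))).trans le_sup_right
  have hcomm : ∀ a ∈ Z l, ∀ b ∈ N ⊓ C l, a * b = b * a := fun a ha b hb =>
    mc h (h.ZV l ha) (h.CV l (mem_inf.1 hb).2)
  obtain ⟨z, hz, n, hn, e⟩ := SQ1.Bau.mem_sup_comm hcomm (h1 hx)
  have h3 : z ∈ C l := by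
    rw [e] at hxC
    exact (mul_mem_cancel_right (mem_inf.1 hn).2).1 hxC
  rw [e, one_of h (ZW h l hz) h3, one_mul]
  exact (mem_inf.1 hn).1

/-- **(L)** -/
theorem line [Finite G] [Finite ι] (htr : Tr W Z C)
    (hW : ∀ z ∈ ZJ, ∀ g : G, g * z * g⁻¹ ∈ ZJ → Full C z → Full C (g * z * g⁻¹))
    {c N : Subgroup G} (hcV : c ≤ V) (hc4 : Nat.card c = 4) (hfix : ∀ x ∈ X, ∃ a ∈ c, a * x ∈ N)
    (htriv : c ⊓ N = ⊥) (hBc : ∀ b ∈ B, ∀ x ∈ c, b * x * b⁻¹ ∈ c) (hBN : ∀ b ∈ B, ∀ x ∈ N, b * x * b⁻¹ ∈ N)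
    (hZJ : ¬ ZJ ≤ N) {τ : G} (hτc : ∀ x ∈ c, τ * x * τ⁻¹ ∈ c) (hτ1 : ∀ x ∈ c, τ * x * τ⁻¹ = x → x = 1)
    (hτN : ∀ x ∈ N, τ * x * τ⁻¹ = x) :
    ∃ l, c = W l ∧ (∀ m, m ≠ l → W m ≤ N) ∧ ∀ m, m ≠ l → Z m ≤ N := by
  classical
  have hfull := fun {v g : G} (hv : v ∈ V) (hg : g * v * g⁻¹ ∈ V) => full_V h htr hW (v := v) (g := g) hv hg
  -- a root element which centralises `c` has its `Z i` in `N`
  have key1 : ∀ i, (∀ t ∈ A i, ∀ x ∈ c, t * x = x * t) → Z i ≤ N := by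
    intro i hi z hz
    have hne := h.Ane i
    push Not at hne
    obtain ⟨t, ht, w0, hw0, hne⟩ := hne
    obtain ⟨w, hw, e⟩ := exists_comm h (h.AB i ht) (fun hh => hne (hh w0 hw0)) hz
    have hwV : w ∈ V := h.WV i hw
    obtain ⟨a, ha, haN⟩ := hfix w (h.VX hwV)
    have haV := hcV ha
    have h1 := hBN t (h.AB i ht) _ haN
    have h2 := mul_mem haN h1
    have hta : t * a * t⁻¹ = a := mul_inv_eq_iff_eq_mul.2 (hi t ht a ha)
    have htw : t * w * t⁻¹ ∈ V := h.LV i t ((h.blk i).BL (h.AB i ht)) w hwV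
    have e1 : a * w * (t * (a * w) * t⁻¹) = w * (t * w * t⁻¹) := by
      have e2 : t * (a * w) * t⁻¹ = a * (t * w * t⁻¹) := by
        calc t * (a * w) * t⁻¹ = (t * a * t⁻¹) * (t * w * t⁻¹) := by group
          _ = _ := by rw [hta]
      rw [e2]
      calc a * w * (a * (t * w * t⁻¹)) = a * (w * a) * (t * w * t⁻¹) := by group
        _ = (a * a) * w * (t * w * t⁻¹) := by rw [mc h hwV haV]; group
        _ = _ := by rw [mi h haV, one_mul]
    rwa [e1, e] at h2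
  -- (1)
  obtain ⟨l, t, ht, x0, hx0, hne⟩ : ∃ l, ∃ t ∈ A l, ∃ x ∈ c, t * x ≠ x * t := by
    by_contra hcon
    push Not at hcon
    exact hZJ (zj_le h fun i => key1 i fun t ht x hx => hcon i t ht x hx)
  -- (2)
  have hxV := hcV hx0
  have h1 : t * x0 * t⁻¹ * x0⁻¹ ∈ Z l := h.A_comm ht hxV
  have h2 : t * x0 * t⁻¹ * x0⁻¹ ∈ c := mul_mem (hBc t (h.AB l ht) x0 hx0) (inv_mem hx0)
  have h3 : t * x0 * t⁻¹ * x0⁻¹ ≠ 1 := fun e => hne (mul_inv_eq_iff_eq_mul.1 (mul_inv_eq_one.1 e))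
  have hZc : Z l ≤ c := by
    intro z hz
    by_cases hz1 : z = 1
    · rw [hz1]; exact one_mem _
    · rw [Z_two h hz hz1 h1 h3]; exact h2
  obtain ⟨zl, hzl, hzl1⟩ := exists_z h l
  -- (3)
  have hidx : ((Z l).subgroupOf c).index = 2 := by
    have e1 := Subgroup.card_mul_index ((Z l).subgroupOf c)
    have e2 : Nat.card ((Z l).subgroupOf c) = 2 := by
      rw [Nat.card_congr (subgroupOfEquivOfLe hZc).toEquiv, h.cardZ l]
    rw [e2, hc4] at e1
    omega
  have h4 : ∀ b ∈ B, ∀ x ∈ c, b * x * b⁻¹ * x⁻¹ ∈ Z l := by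
    intro b hb x hx
    have hbx := hBc b hb x hx
    by_cases hxZ : x ∈ Z l
    · rw [(h.blk l).cZ b hb x hxZ]
      simp [one_mem]
    · have hbxZ : b * x * b⁻¹ ∉ Z l := by
        intro h5
        apply hxZ
        have h6 := (h.blk l).cZ b hb _ h5
        have e : x = b * x * b⁻¹ := by
          have h7 : b * x = b * (b * x * b⁻¹) := by rw [h6]; group
          exact mul_left_cancel h7
        rw [e]; exact h5
      have h5 := Subgroup.mul_mem_iff_of_index_two hidx (a := ⟨b * x * b⁻¹, hbx⟩) (b := ⟨x, hx⟩⁻¹)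
      have h6 : ((⟨b * x * b⁻¹, hbx⟩ * ⟨x, hx⟩⁻¹ : c) : G) = b * x * b⁻¹ * x⁻¹ := rfl
      rw [mem_subgroupOf, mem_subgroupOf, mem_subgroupOf, h6] at h5
      refine h5.2 (iff_of_false hbxZ ?_)
      intro h7
      exact hxZ (by simpa using h7)
  -- (4)
  have h5 : ∀ x ∈ c, ∃ w ∈ W l, ∃ b ∈ C l, b ∈ ZJ ∧ x = w * b := by
    intro x hx
    obtain ⟨w, hw, b', hb', rfl⟩ := h.WC l x (hcV hx)
    refine ⟨w, hw, b', hb', (h.mem_ZJ b').2 ⟨h.CV l hb', fun b hb => ?_⟩, rfl⟩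
    have h6 := h4 b hb _ hx
    have h7 := (h.blk l).BV hb hw
    have h8 := h.BC l b hb b' hb'
    have e : b * (w * b') * b⁻¹ * (w * b')⁻¹ = (b * w * b⁻¹ * w⁻¹) * (b * b' * b⁻¹ * b'⁻¹) := by
      have c1 := mc h (h.WV l hw) (h.CV l (mul_mem h8 (inv_mem hb')))
      calc b * (w * b') * b⁻¹ * (w * b')⁻¹ = (b * w * b⁻¹) * ((b * b' * b⁻¹ * b'⁻¹) * w⁻¹) := by group
        _ = (b * w * b⁻¹) * (w⁻¹ * (b * b' * b⁻¹ * b'⁻¹)) := by
          rw [mc h (h.CV l (mul_mem h8 (inv_mem hb'))) (inv_mem (h.WV l hw))]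
        _ = _ := by group
    rw [e] at h6
    have h9 : b * b' * b⁻¹ * b'⁻¹ ∈ W l :=
      (mul_mem_cancel_left (mul_mem h7 (inv_mem hw))).1 (ZW h l h6)
    have h10 := one_of h h9 (mul_mem h8 (inv_mem hb'))
    exact mul_inv_eq_iff_eq_mul.1 (mul_inv_eq_one.1 h10)
  -- (5)
  have h6 : ∀ m, m ≠ l → Z m ≤ N := by
    intro m hm
    refine key1 m fun s hs x hx => ?_
    obtain ⟨w, hw, b, hb, hbZ, rfl⟩ := h5 x hx
    have c1 : Commute s w := h.AC m s hs w (h.WjC m l hm hw)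
    have c2 : Commute s b := ((h.mem_ZJ b).1 hbZ).2 s (h.AB m hs)
    exact (c1.mul_right c2).eq
  -- (6)
  obtain ⟨z0, hz0, hz0f⟩ := exists_full h
  obtain ⟨y, hy, c0, hc0, hc0Z, ez0⟩ := h.split_ZJ l hz0
  have hy1 : y ≠ 1 := by
    rintro rfl
    apply hz0f l
    rw [ez0, one_mul]
    exact hc0
  have hc0N : c0 ∈ N := ZJ_C_le h h6 hc0Z hc0
  have hc0f : ∀ i, i ≠ l → c0 ∉ C i := fun i hi h7 => hz0f i (by
    rw [ez0, mul_mem_C h hi (ZW h l hy)]; exact h7)
  have hyc : y ∈ c := hZc hy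
  have hx := hτc y hyc
  obtain ⟨w, hw, b', hb', hb'Z, ex⟩ := h5 _ hx
  have hτz : τ * z0 * τ⁻¹ = w * (b' * c0) := by
    rw [ez0]
    calc τ * (y * c0) * τ⁻¹ = (τ * y * τ⁻¹) * (τ * c0 * τ⁻¹) := by group
      _ = w * b' * c0 := by rw [ex, hτN c0 hc0N]
      _ = _ := by group
  have hτzV : τ * z0 * τ⁻¹ ∈ V := by
    rw [hτz]
    exact mul_mem (h.WV l hw) (mul_mem (h.CV l hb') (h.CV l hc0))
  have hf1 := hfull (h.ZJV hz0) hτzV hz0f
  have hb'1 : b' = 1 := by
    refine h.C0 b' (h.CV l hb') fun i => ?_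
    by_cases hi : i = l
    · rw [hi]; exact hb'
    · by_contra hbi
      have h7 : b' * c0 ∉ C i := fun h8 => hf1 i (by
        rw [hτz, mul_mem_C h hi hw]; exact h8)
      obtain ⟨a1, ha1, d1, hd1, e1⟩ := ZJ_cmp h hb'Z i
      obtain ⟨a2, ha2, d2, hd2, e2⟩ := ZJ_cmp h hc0Z i
      have ha1' : a1 ≠ 1 := by
        rintro rfl
        exact hbi (by rw [e1, one_mul]; exact hd1)
      have ha2' : a2 ≠ 1 := by
        rintro rfl
        exact hc0f i hi (by rw [e2, one_mul]; exact hd2)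
      have e3 := Z_two h ha1 ha1' ha2 ha2'
      apply h7
      rw [e1, e2, ← e3]
      have e4 : a1 * d1 * (a1 * d2) = (a1 * a1) * (d1 * d2) := by
        calc a1 * d1 * (a1 * d2) = a1 * (d1 * a1) * d2 := by group
          _ = a1 * (a1 * d1) * d2 := by rw [mc h (h.CV i hd1) (h.ZV i ha1)]
          _ = _ := by group
      rw [e4, mi h (h.ZV i ha1), one_mul]
      exact mul_mem hd1 hd2
  have hxW : τ * y * τ⁻¹ ∈ W l := by rw [ex, hb'1, mul_one]; exact hw
  have hx1 : τ * y * τ⁻¹ ≠ 1 := fun e => hy1 (conj_eq_one_iff.1 e)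
  have hxy : τ * y * τ⁻¹ ≠ y := fun e => hy1 (hτ1 y hyc e)
  have hWl : Nat.card (W l) = 4 := by rw [(h.blk l).card, h.cardZ l]
  have hcW : c = W l := by
    have h7 : Nat.card ↥(c ⊓ W l) ∣ 4 := by
      rw [← hc4]
      exact Subgroup.card_dvd_of_le inf_le_left
    have h8 : 2 < Nat.card ↥(c ⊓ W l) :=
      two_lt_card (one_mem _) (mem_inf.2 ⟨hyc, ZW h l hy⟩) (mem_inf.2 ⟨hx, hxW⟩) hy1.symm hx1.symm hxy.symm
    have h9 : Nat.card ↥(c ⊓ W l) = 4 := eq_four h7 h8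
    have h10 : c ⊓ W l = c := Subgroup.eq_of_le_of_card_ge inf_le_left (by rw [h9, hc4])
    have h11 : c ⊓ W l = W l := Subgroup.eq_of_le_of_card_ge inf_le_right (by rw [h9, hWl])
    rw [← h10, h11]
  refine ⟨l, hcW, fun m hm v hv => ?_, h6⟩
  -- (7)
  by_cases hv1 : v = 1
  · rw [hv1]; exact one_mem _
  have hvV := h.WV m hv
  obtain ⟨a, ha, haN⟩ := hfix v (h.VX hvV)
  by_cases ha1 : a = 1
  · rwa [ha1, one_mul] at haN
  exfalso
  have haV := hcV ha
  set a' := τ * a * τ⁻¹ with ha'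
  have ha'c : a' ∈ c := hτc a ha
  have hne' : a' ≠ a := fun e => ha1 (hτ1 a ha e)
  have hτv : τ * v * τ⁻¹ = (a' * a) * v := by
    have e1 : v = a * (a * v) := by rw [← mul_assoc, mi h haV, one_mul]
    have e2 : τ * v * τ⁻¹ = a' * (τ * (a * v) * τ⁻¹) := by
      rw [ha']
      nth_rewrite 1 [e1]
      group
    rw [e2, hτN _ haN]
    group
  set w' := a' * a with hw'
  have hw'c : w' ∈ c := mul_mem ha'c ha
  have hw'c' := hw'c
  have hw'1 : w' ≠ 1 := fun e => hne' (by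
    rw [← inv_eq h haV]
    exact eq_inv_of_mul_eq_one_left e)
  -- `τ` is surjective on `c`
  obtain ⟨e', he', hee⟩ : ∃ e ∈ c, τ * e * τ⁻¹ = w' := by
    have h7 : cj τ c = c := by
      refine Subgroup.eq_of_le_of_card_ge ?_ (card_cj _ _).ge
      rintro _ ⟨x, hx, rfl⟩
      exact hτc x hx
    rw [← h7] at hw'c
    obtain ⟨x, hx, e⟩ := hw'c
    exact ⟨x, hx, e⟩
  have he1 : e' ≠ 1 := by
    rintro rfl
    apply hw'1
    rw [← hee]
    simp
  obtain ⟨y2, hy2, c1, hc1, hc1Z, ec0⟩ := h.split_ZJ m hc0Z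
  have hy2C : ∀ i, i ≠ m → y2 ∈ C i := fun i hi => h.WjC i m hi (ZW h m hy2)
  have hc1l : c1 ∈ C l := by
    rw [ec0] at hc0
    exact (mul_mem_cancel_left (hy2C l (Ne.symm hm))).1 hc0
  have hc1N : c1 ∈ N := ZJ_C_le h h6 hc1Z hc1l
  have hc1f : ∀ i, i ≠ l → i ≠ m → c1 ∉ C i := fun i hi hi' h7 => hc0f i hi (by
    rw [ec0]; exact mul_mem (hy2C i hi') h7)
  have he'W : e' ∈ W l := hcW ▸ he'
  have hw'W : w' ∈ W l := hcW ▸ hw'c'
  have hu : v * (e' * c1) ∈ V := mul_mem hvV (mul_mem (h.WV l he'W) (h.CV m hc1))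
  have huf : Full C (v * (e' * c1)) := by
    intro i h7
    by_cases him : i = m
    · subst him
      have h8 : e' * c1 ∈ C i := by
        rw [mul_mem_C h hm he'W]; exact hc1
      exact hv1 (one_of h hv ((mul_mem_cancel_right h8).1 h7))
    · rw [mul_mem_C h him hv] at h7
      by_cases hil : i = l
      · subst hil
        exact he1 (one_of h he'W ((mul_mem_cancel_right hc1l).1 h7))
      · rw [mul_mem_C h hil he'W] at h7
        exact hc1f i hil him h7
  have eu : τ * (v * (e' * c1)) * τ⁻¹ = v * c1 := by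
    have e1 : τ * (v * (e' * c1)) * τ⁻¹ = (τ * v * τ⁻¹) * (τ * e' * τ⁻¹) * (τ * c1 * τ⁻¹) := by group
    rw [e1, hτv, hee, hτN c1 hc1N, mul_assoc w' v w', mc h hvV (h.WV l hw'W), ← mul_assoc w' w' v,
      mi h (h.WV l hw'W), one_mul]
  have h7 := hfull hu (by rw [eu]; exact mul_mem hvV (h.CV m hc1)) huf l
  rw [eu] at h7
  exact h7 (mul_mem (h.WjC l m (Ne.symm hm) hv) hc1l)

end base

end Cfsg.Agent.Omega.OM.Lev.Low.Line

end
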