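import Cfsg.Agent.Mrg.Omega.OM.SwapL.Off
import Cfsg.Agent.Mrg.Omega.OM.SwapL.TI
import Cfsg.Agent.Mrg.Omega.OM.Lev.Low.LowMain

section


/-!
# THEOREM SW at the levels, `q = 2`, inside `C_G(c)`, `c ∈ Z_J` of full support

LL is needed only for the minimal parabolics `Y ≤ C_G(c)`.

* `exists_maxZ` : a pair with `|C_ZJ(T)|` maximal, `C_G(C_ZJ(T) z_j) ≤ M` for the moved indices `j`;
* `exists_sitZ`, `le_of_char2Z`; `LowZ`; `noOmZ` : (Om) is impossible for `q = 2` at every stage `n ≥ 0`.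
-/

set_option autoImplicit false

namespace Cfsg.Agent.Omega.OM.SwapL

open Subgroup Cfsg Cfsg.Agent.ZN.ChoiceBase Cfsg.Agent.ZN.ChoiceSit
open Cfsg.Agent.ZN (jj zj bau zc zl o2)
open Cfsg.Agent.Omega.NO3S (HypN)
open Cfsg.Agent.Omega.NO3S.Level (lev Lev lev_isLev)
open Cfsg.Agent.Omega.OM.LevD (LB K0 Fam)
open Cfsg.Agent.Omega.OM.LevB (FBlk)
open Cfsg.Agent.MinSimple.MinParabolic (IsMinPar)
open Cfsg.Agent.Omega.OM.Swap.Fam (Fm SitF)
open Cfsg.Agent.Omega.OM.Swap (char2_cent)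

universe u

variable {G : Type u} [Group G] [Finite G]

section line

variable {ι : Type} [Finite ι] {S : Sylow 2 G} {P : Subgroup G} {n : ℕ} {L W Z C A : ι → Subgroup G}

/-- A pair with `|C_ZJ(T)|` maximal; `C_G(C_ZJ(T) z_j) ≤ M` for `j ∉ Phi(T)`. -/
theorem exists_maxZ (h : Ln S P n L W Z C A 2) {M H : Subgroup G} {c : G} (hc : c ∈ ZL (S : Subgroup G) n)
    (hcf : ∀ i, c ∉ C i) (hBM : BMH S n M (centralizer ({c} : Set G)))
    (hD : centralizer (ZL (S : Subgroup G) n : Set G) ≤ M) (hN : normalizer (BL (S : Subgroup G) n : Set G) ≤ M)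
    (hB : BL (S : Subgroup G) n ≤ H) (hH : H ≤ centralizer ({c} : Set G))
    (hch : H ⊓ centralizer (o2 H : Set G) ≤ o2 H) (hM : ¬ H ≤ M) :
    ∃ T F : Subgroup G, Pair S P n M T F ∧ ∀ j, j ∉ Phi Z T →
      centralizer ((ZL (S : Subgroup G) n ⊓ centralizer (T : Set G) ⊔ Z j : Subgroup G) : Set G) ≤ M := by
  classical
  have hS2 : IsPGroup 2 (ZL (S : Subgroup G) n) := (lb S n).Bp.to_le (lb S n).ZB
  have hBMH : ∀ H' : Subgroup G, H' ≤ centralizer ({c} : Set G) → BMH S n M H' := fun H' hH' T Y hT hB' hY hYH =>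
    hBM T Y hT hB' hY (hYH.trans hH')
  -- choose
  let s : Set ℕ := {m | ∃ T F : Subgroup G, Pair S P n M T F ∧
    Nat.card (ZL (S : Subgroup G) n ⊓ centralizer (T : Set G) : Subgroup G) = m}
  have hs1 : s.Nonempty := by
    obtain ⟨T, F, hp, -⟩ := exists_pairH h (hBMH H hH) hD hN hB hch hM
    exact ⟨_, T, F, hp, rfl⟩
  have hs2 : s.Finite := by
    refine (Set.finite_Iic (Nat.card (ZL (S : Subgroup G) n))).subset ?_
    rintro m ⟨T, F, -, rfl⟩
    rw [Set.mem_Iic]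
    exact Nat.card_mono (Set.toFinite _) (inf_le_left : ZL (S : Subgroup G) n ⊓ centralizer (T : Set G) ≤ _)
  obtain ⟨m, hm⟩ := hs2.exists_maximal hs1
  obtain ⟨T, F, hp, hcard⟩ := hm.prop
  refine ⟨T, F, hp, fun j hj => ?_⟩
  by_contra hcon
  set X : Subgroup G := ZL (S : Subgroup G) n ⊓ centralizer (T : Set G) ⊔ Z j with hX
  have hXJ : X ≤ ZL (S : Subgroup G) n := sup_le inf_le_left (h.fr.Z_le j)
  have hX1 : X ≠ ⊥ := by
    intro e
    obtain ⟨z, hz, hz1⟩ := Z_ne h j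
    have h1 : z ∈ X := mem_sup_right hz
    rw [e, mem_bot] at h1
    exact hz1 h1
  have hcX : c ∈ X := by
    refine mem_sup_left (mem_inf.2 ⟨hc, mem_centralizer_iff.2 fun t ht => ?_⟩)
    exact full_cent h hc hcf hp.syl.2.1 hp.BT ht
  have hXc : centralizer (X : Set G) ≤ centralizer ({c} : Set G) :=
    centralizer_le (Set.singleton_subset_iff.2 hcX)
  have hBX : BL (S : Subgroup G) n ≤ centralizer (X : Set G) :=
    (lb S n).Bc.trans (centralizer_le (by exact_mod_cast hXJ))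
  obtain ⟨T', F', hp', hle⟩ := exists_pairH h (hBMH _ hXc) hD hN hBX
    (char2_cent h.hyp.ctx.char2 (hS2.to_le hXJ) hX1) hcon
  have hsub : X ≤ ZL (S : Subgroup G) n ⊓ centralizer (T' : Set G) :=
    le_inf hXJ (le_centralizer_iff.1 (hp'.syl.1.trans hle))
  have hlt : ZL (S : Subgroup G) n ⊓ centralizer (T : Set G) < X := by
    refine lt_of_le_of_ne le_sup_left fun e => hj fun t ht => ?_
    refine cj_eq_of_mem_normalizer (centralizer_le_normalizer _ ?_)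
    have h1 : Z j ≤ centralizer (T : Set G) := by
      have h2 : Z j ≤ ZL (S : Subgroup G) n ⊓ centralizer (T : Set G) := by
        rw [e]; exact le_sup_right
      exact h2.trans inf_le_right
    exact le_centralizer_iff.1 h1 ht
  have h2 : m < Nat.card (ZL (S : Subgroup G) n ⊓ centralizer (T' : Set G) : Subgroup G) := by
    rw [← hcard]
    refine lt_of_lt_of_le (lt_of_not_ge fun hge => hlt.ne (Subgroup.eq_of_le_of_card_ge hlt.le hge))
      (Nat.card_mono (Set.toFinite _) (hsub : (X : Set G) ⊆ _))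
  exact absurd (hm.le_of_ge ⟨T', F', hp', rfl⟩ h2.le) (not_le.2 h2)

/-- **STEP 0.** -/
theorem exists_sitZ (h : Ln S P n L W Z C A 2) {M H : Subgroup G} {c : G} (hc : c ∈ ZL (S : Subgroup G) n)
    (hcf : ∀ i, c ∉ C i) (hBM : BMH S n M (centralizer ({c} : Set G))) (hLM : ∀ i, L i ≤ M)
    (hD : centralizer (ZL (S : Subgroup G) n : Set G) ≤ M) (hN : normalizer (BL (S : Subgroup G) n : Set G) ≤ M)
    (hB : BL (S : Subgroup G) n ≤ H) (hH : H ≤ centralizer ({c} : Set G))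
    (hch : H ⊓ centralizer (o2 H : Set G) ≤ o2 H) (hM : ¬ H ≤ M) :
    ∃ (T F F₀ : Subgroup G) (𝓐 : Set (Subgroup G)) (κ : Type) (V : κ → Subgroup G) (z : κ → G),
      SitF F T F₀ 𝓐 V z := by
  classical
  obtain ⟨T, F, hp, hcen⟩ := exists_maxZ h hc hcf hBM hD hN hB hH hch hM
  have hZM : normalizer (ZL (S : Subgroup G) n : Set G) ≤ M := (lb S n).norm_zj_le.trans (sup_le hD hN)
  have hSM : (S : Subgroup G) ≤ M := ((lb S n).two_le S.isPGroup' (lb S n).BS).trans hN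
  have hTN : T ≤ normalizer (BL (S : Subgroup G) n : Set G) := (lb S n).two_le hp.syl.2.1 hp.BT
  have hTM : T ≤ M := hTN.trans hN
  have hO : o2 F ≤ T := o2_le_syl hp.syl
  have hON : o2 F ≤ normalizer (BL (S : Subgroup G) n : Set G) := hO.trans hTN
  have hTF : T ≤ F := hp.syl.1
  obtain ⟨𝓐, hfam, hnJ, hA⟩ := exists_fam h hp hD hTM hZM
  choose z hz hz1 using Z_ne h
  -- an index moved by `O₂(F)`
  obtain ⟨i₀, o₀, ho₀, hmv⟩ : ∃ i, ∃ o ∈ o2 F, cj o (Z i) ≠ Z i := by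
    by_contra hcon
    push Not at hcon
    apply hp.nM
    have h1 : ZL (S : Subgroup G) n ≤ centralizer (F : Set G) := by
      intro x hx
      refine hp.fix ⟨hx, mem_centralizer_iff.2 fun o ho => ?_⟩
      refine comm_of_supp h (hON ho) hx fun i j e => ?_
      rw [hcon i o ho] at e
      rw [Z_inj h e]
    exact (le_centralizer_iff.1 h1).trans hD
  -- its orbit
  set r : Set ι := {j | ∃ o ∈ o2 F, cj o (Z i₀) = Z j} with hr
  have hrO : ∀ o ∈ o2 F, ∀ i j, cj o (Z i) = Z j → (i ∈ r ↔ j ∈ r) := by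
    intro o ho i j e
    constructor
    · rintro ⟨o', ho', e'⟩
      exact ⟨o * o', mul_mem ho ho', cj_mul_eq e' e⟩
    · rintro ⟨o', ho', e'⟩
      exact ⟨o⁻¹ * o', mul_mem (inv_mem ho) ho', cj_mul_eq e' (cj_inv_eq e)⟩
  have hi₀ : i₀ ∈ r := ⟨1, one_mem _, cj_one _⟩
  obtain ⟨j₀, hj₀, -⟩ := perm h (hON ho₀) i₀
  have hj₀r : j₀ ∈ r := ⟨o₀, ho₀, hj₀⟩
  have hne₀ : i₀ ≠ j₀ := by
    rintro rfl
    exact hmv hj₀
  -- elements of `Z_J` with support `r` are centralised by `F`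
  have hsuppF : ∀ x ∈ ZL (S : Subgroup G) n, (∀ i, x ∈ C i ↔ i ∉ r) → ∀ f ∈ F, f * x = x * f := by
    intro x hx hxs f hf
    refine mem_centralizer_iff.1 (hp.fix ⟨hx, mem_centralizer_iff.2 fun o ho => ?_⟩) f hf
    refine comm_of_supp h (hON ho) hx fun i j e => ?_
    rw [hxs i, hxs j, hrO o ho i j e]
  obtain ⟨xr, hxr, hxrs⟩ := exists_supp h r
  -- `T` stabilises `r`
  have hrT : ∀ t ∈ T, ∀ i j, cj t (Z i) = Z j → i ∈ r → j ∈ r := by
    intro t ht i j e hi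
    by_contra hj
    have h1 := (supp_cj h (hTN ht) e hxr).1
    have h2 := hsuppF xr hxr hxrs t (hTF ht)
    have h3 : t * xr * t⁻¹ = xr := by rw [h2]; group
    rw [h3] at h1
    exact (hxrs i).1 (h1 ((hxrs j).2 hj)) hi
  -- `r` and `Phi(T)` are disjoint
  have hrPhi : ∀ j ∈ r, j ∉ Phi Z T := by
    rintro j ⟨o, ho, e⟩ hj
    apply hmv
    have h1 := hj (o * o₀ * o⁻¹) (hO (mul_mem (mul_mem ho ho₀) (inv_mem ho)))
    rw [← e, cj_cj] at h1
    have h2 : cj o⁻¹ (cj (o * o₀ * o⁻¹ * o) (Z i₀)) = cj o⁻¹ (cj o (Z i₀)) := by rw [h1]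
    rw [cj_cj, cj_inv_cj] at h2
    have e2 : o⁻¹ * (o * o₀ * o⁻¹ * o) = o₀ := by group
    rwa [e2] at h2
  -- (TI)
  choose tv htvA htvm using exists_tv h
  have hctx : Ctx S P n L W Z C A M T F r z tv :=
    { h := h
      hp := hp
      LM := hLM
      NM := hN
      cen := fun i hi => hcen i (hrPhi i hi)
      zZ := hz
      zn := hz1
      tvA := htvA
      tvm := htvm
      tr := by
        rintro i ⟨o, ho, e⟩ j ⟨o', ho', e'⟩
        exact ⟨o' * o⁻¹, mul_mem ho' (inv_mem ho), cj_mul_eq (cj_inv_eq e) e'⟩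
      inv := hrO
      nt := fun i _ => by
        by_cases hi : i = i₀
        · exact ⟨j₀, hj₀r, fun e => hne₀ (by rw [← hi, e])⟩
        · exact ⟨i₀, hi₀, fun e => hi e.symm⟩ }
  have hti : ∀ i ∈ r, ∀ x ∈ W i, x ≠ 1 → ∀ f ∈ F, x ∈ cj f (⨆ j ∈ r, W j) → f ∈ M := by
    intro i hi x hx hx1 f hf hxf
    rw [mem_cj] at hxf
    exact hctx.ti hf hi hx hx1 hxf
  have hsup : (⨆ j : r, W j) = ⨆ j ∈ r, W j := iSup_subtype' (f := fun j (_ : j ∈ r) => W j) |>.symm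
  have hWV : ∀ i, W i ≤ zl (S : Subgroup G) P := h.fr.WV
  have hcomm : ∀ f ∈ F, ∀ x ∈ zl (S : Subgroup G) P, ∀ y ∈ zl (S : Subgroup G) P,
      x * (f * y * f⁻¹) = f * y * f⁻¹ * x := fun f hf x hx y hy => comm_of_pair h hp hf hx hy
  -- `Λ = ⟨V^F⟩` is elementary abelian
  have hVel : IsElementaryAbelian 2 (NoFF.Basic.V (zl (S : Subgroup G) P) F) := by
    have h1 := Swap.elab_iSup (W := fun f : F => cj (f : G) (zl (S : Subgroup G) P)) (fun f f' x hx y hy => ?_)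
      fun f x hx => ?_
    · exact Swap.elab_of h1.1 h1.2
    · rw [mem_cj] at hx hy
      have h2 := hcomm ((f : G)⁻¹ * f') (mul_mem (inv_mem f.2) f'.2) _ hx _ hy
      have e1 : (f : G)⁻¹ * f' * ((f' : G)⁻¹ * y * f') * ((f : G)⁻¹ * f')⁻¹ = (f : G)⁻¹ * y * f := by group
      rw [e1] at h2
      have h3 := congrArg (fun t => (f : G) * t * (f : G)⁻¹) h2
      have e2 : (f : G) * ((f : G)⁻¹ * x * f * ((f : G)⁻¹ * y * f)) * (f : G)⁻¹ = x * y := by group
      have e3 : (f : G) * ((f : G)⁻¹ * y * f * ((f : G)⁻¹ * x * f)) * (f : G)⁻¹ = y * x := by group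
      exact e2.symm.trans (h3.trans e3)
    · rw [mem_cj] at hx
      have h2 := SQ1.Bau.elem_sq h.fr.el _ hx
      rw [pow_two] at h2
      have e : x * x = f * ((f : G)⁻¹ * x * f * ((f : G)⁻¹ * x * f)) * (f : G)⁻¹ := by group
      rw [e, h2]; group
  have hUV : (⨆ j : r, W j) ≤ zl (S : Subgroup G) P := iSup_le fun j => hWV j
  have hLV : NoFF.Basic.V (⨆ j : r, W j) F ≤ NoFF.Basic.V (zl (S : Subgroup G) P) F :=
    NoFF.Basic.V_le fun f hf => (cj_mono f hUV).trans (NoFF.Basic.Z_le_V hf)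
  have hUF : (⨆ j : r, W j) ≤ F := hUV.trans (hp.VO.trans (o2_le F))
  refine ⟨T, F, F ⊓ M, 𝓐, r, fun i => W i, fun i => z i, ?_⟩
  refine
    { syl := hp.syl
      TF₀ := le_inf hTF hTM
      F₀F := lt_of_le_of_ne inf_le_left fun e => hp.nM (inf_eq_left.1 e)
      max := fun K hTK hKF => le_inf hKF.le (hp.min K hTK hKF)
      fam := hfam _ (Swap.elab_mono hVel hLV) ?_ OmThm.XD.X_le_normalizer_W hLV
      nJ := hnJ
      fin := inferInstance
      two := ⟨⟨i₀, hi₀⟩, ⟨j₀, hj₀r⟩, fun e => hne₀ (congrArg Subtype.val e)⟩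
      card := fun i => by rw [(h.fr.blk i).card, h.fr.cardZ]
      zV := fun i => Z_W h _ (hz i)
      z1 := fun i => hz1 i
      VO := fun i => (hWV i).trans hp.VO
      sq := fun i x hx => by
        rw [← pow_two]
        exact SQ1.Bau.elem_sq h.fr.el x (hWV i hx)
      comm := fun f hf i j x hx y hy => comm_of_pair h hp hf (hWV i hx) (hWV j hy)
      ind := ?_
      perm := ?_
      tr := ?_
      nor := ?_
      hat := ?_
      mov := ?_
      zc := ?_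
      ti := ?_ }
  · refine NoFF.Basic.V_le fun f hf => ?_
    have := cj_mono f hUF
    rwa [cj_eq_of_mem_normalizer (le_normalizer hf)] at this
  · rintro ⟨i, hi⟩ x hx hx'
    have h1 : (⨆ j : r, ⨆ _ : j ≠ ⟨i, hi⟩, W j) ≤ C i := by
      refine iSup_le fun j => iSup_le fun hj => ?_
      exact h.fr.WjC i j fun e => hj (Subtype.ext e.symm)
    have h2 : x ∈ W i ⊓ C i := mem_inf.2 ⟨hx, h1 hx'⟩
    rwa [h.fr.dir i, mem_bot] at h2
  · rintro t ht ⟨i, hi⟩
    obtain ⟨j, h1, h2, -⟩ := perm h (hTN ht) i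
    exact ⟨⟨j, hrT t ht i j h1 hi⟩, h2, conj_gen h h1 (hz i) (hz1 i) (hz j) (hz1 j)⟩
  · rintro ⟨i, o, ho, e⟩ ⟨j, o', ho', e'⟩
    refine ⟨o' * o⁻¹, mul_mem ho' (inv_mem ho), ?_⟩
    exact W_cj h (hON (mul_mem ho' (inv_mem ho))) (cj_mul_eq (cj_inv_eq e) e')
  · rintro X hX hXT a ha ⟨i, hi⟩
    have hb := (hA X hX hXT).1 ha
    have key : ∀ b ∈ BL (S : Subgroup G) n, cj b (W i) ≤ W i := by
      rintro b hb _ ⟨w, hw, rfl⟩
      exact (h.fr.blk i).BV hb hw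
    refine le_antisymm (key a hb) ?_
    have := cj_mono a (key a⁻¹ (inv_mem hb))
    rwa [cj_cj_inv] at this
  · rintro X hX hXT ⟨i, hi⟩ hmv'
    obtain ⟨hXB, h1 | hbest⟩ := hA X hX hXT
    · obtain ⟨a, ha, x, hx, hne⟩ := hmv'
      exact absurd (h1 a ha x (hWV i hx)) hne
    · obtain ⟨a, ha, h1, h2⟩ := hat h.fr hXB hbest hmv'
      exact ⟨a, ha, h1, fun j hj x hx => h2 j (fun e => hj (Subtype.ext e)) x hx⟩
  · rintro ⟨i, hi⟩
    have h2 := h.fr.Ane i
    push Not at h2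
    obtain ⟨a, ha, v, hv, hne⟩ := h2
    refine ⟨a, hp.BT (h.fr.AB i ha), ⟨v, hv, hne⟩, fun j hj x hx => ?_⟩
    exact h.fr.AC i a ha x (h.fr.WjC i j (fun e => hj (Subtype.ext e.symm)) hx)
  · rintro ⟨i, hi⟩ ⟨j, hj⟩ hij hall f hf
    have hij' : i ≠ j := fun e => hij (Subtype.ext e)
    have hall' : ∀ k ∈ r, k = i ∨ k = j := by
      intro k hk
      rcases hall ⟨k, hk⟩ with e | e
      · exact Or.inl (congrArg Subtype.val e)
      · exact Or.inr (congrArg Subtype.val e)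
    refine hsuppF (z i * z j) (mul_mem (h.fr.Z_le i (hz i)) (h.fr.Z_le j (hz j))) (fun k => ?_) f hf
    by_cases hki : k = i
    · subst hki
      rw [Subgroup.mul_mem_cancel_right _ (Z_C h hij' (hz j))]
      exact ⟨fun h1 => absurd h1 (not_mem_C h (hz k) (hz1 k)), fun h1 => absurd hi h1⟩
    · by_cases hkj : k = j
      · subst hkj
        rw [Subgroup.mul_mem_cancel_left _ (Z_C h hki (hz i))]
        exact ⟨fun h1 => absurd h1 (not_mem_C h (hz k) (hz1 k)), fun h1 => absurd hj h1⟩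
      · refine ⟨fun _ hk => ?_, fun _ => mul_mem (Z_C h hki (hz i)) (Z_C h hkj (hz j))⟩
        rcases hall' k hk with e | e
        · exact hki e
        · exact hkj e
  · rintro ⟨i, hi⟩ x hx hx1 f hf hxf
    rw [hsup] at hxf
    exact mem_inf.2 ⟨hf, hti i hi x hx hx1 f hf hxf⟩

/-- **THEOREM SW at the levels**, inside `C_G(c)`. -/
theorem le_of_char2Z (hs : SitFFalse.{u}) (h : Ln S P n L W Z C A 2) {M H : Subgroup G} {c : G}
    (hc : c ∈ ZL (S : Subgroup G) n) (hcf : ∀ i, c ∉ C i) (hBM : BMH S n M (centralizer ({c} : Set G)))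
    (hLM : ∀ i, L i ≤ M)
    (hD : centralizer (ZL (S : Subgroup G) n : Set G) ≤ M) (hN : normalizer (BL (S : Subgroup G) n : Set G) ≤ M)
    (hB : BL (S : Subgroup G) n ≤ H) (hH : H ≤ centralizer ({c} : Set G))
    (hch : H ⊓ centralizer (o2 H : Set G) ≤ o2 H) : H ≤ M := by
  by_contra hM
  obtain ⟨T, F, F₀, 𝓐, κ, V, z, hS⟩ := exists_sitZ h hc hcf hBM hLM hD hN hB hH hch hM
  exact hs G F T F₀ 𝓐 κ V z hS

/-- **LL inside `C_G(c)`**: minimal parabolics `Y ≤ C_G(c)` of smaller stage over `T ≥ B` centralise `Ω₁Z(T)`. -/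
def LowZ (S : Sylow 2 G) (n : ℕ) (c : G) : Prop :=
  ∀ T Y : Subgroup G, Syl T Y → BL (S : Subgroup G) n ≤ T → IsMinPar T Y → Y ≤ centralizer ({c} : Set G) →
    Y ⊓ centralizer (o2 Y : Set G) ≤ o2 Y → ¬ lev (S : Subgroup G) n ≤ o2 Y → Y ≤ centralizer (zc T : Set G)

omit [Finite ι] in
theorem bmh_of_lowZ (S : Sylow 2 G) {n : ℕ} {M : Subgroup G} {c : G}
    (hK : K0 (ZL (S : Subgroup G) n) (FBlk (BL (S : Subgroup G) n)) ≤ M)
    (hN : normalizer (BL (S : Subgroup G) n : Set G) ≤ M) (hl : LowZ S n c) :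
    BMH S n M (centralizer ({c} : Set G)) := by
  intro T Y hT hB hY hYc hc hn hZ
  by_cases h1 : lev (S : Subgroup G) n ≤ o2 Y
  · exact (LevB.blkGen S hT hB hY hc h1 hn hZ).trans (sup_le hK (((lb S n).two_le hT.2.1 hB).trans hN))
  · exact absurd (hl T Y hT hB hY hYc hc h1) hZ

/-- an element of full support -/
theorem exists_full (h : Ln S P n L W Z C A 2) : ∃ c ∈ ZL (S : Subgroup G) n, ∀ i, c ∉ C i := by
  obtain ⟨c, hc, hs⟩ := exists_supp h Set.univ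
  exact ⟨c, hc, fun i hi => (hs i).1 hi (Set.mem_univ i)⟩

/-- **(Om) is impossible for `q = 2` at stage `n`**: `K0` normalises no nontrivial 2-subgroup. LL is used inside
`C_G(c)` only, `c` of full support. -/
theorem noOmZ (hs : SitFFalse.{u}) (h : Ln S P n L W Z C A 2) (hn1 : ¬ lev (S : Subgroup G) (n + 1) ≤ o2 P)
    (hF : Fam (BL (S : Subgroup G) n) (ZL (S : Subgroup G) n) (FBlk (BL (S : Subgroup G) n)))
    (hLM : ∀ i, L i ≤ K0 (ZL (S : Subgroup G) n) (FBlk (BL (S : Subgroup G) n)))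
    {c : G} (hc : c ∈ ZL (S : Subgroup G) n) (hcf : ∀ i, c ∉ C i) (hl : LowZ S n c) :
    ∀ R : Subgroup G, IsPGroup 2 R →
      K0 (ZL (S : Subgroup G) n) (FBlk (BL (S : Subgroup G) n)) ≤ normalizer (R : Set G) → R = ⊥ := by
  by_contra hcon
  push Not at hcon
  obtain ⟨R, hR, hRn, hR1⟩ := hcon
  obtain ⟨ho, hoB, hle⟩ := hF.dich (lb S n) hR hR1 hRn
  set O : Subgroup G := o2 (K0 (ZL (S : Subgroup G) n) (FBlk (BL (S : Subgroup G) n))) with hO
  set M : Subgroup G := normalizer (O : Set G) with hM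
  have hK : K0 (ZL (S : Subgroup G) n) (FBlk (BL (S : Subgroup G) n)) ≤ M := le_sup_left.trans hle
  have hN : normalizer (BL (S : Subgroup G) n : Set G) ≤ M := le_sup_right.trans hle
  have hSM : (S : Subgroup G) ≤ M := ((lb S n).two_le S.isPGroup' (lb S n).BS).trans hN
  have hS1 : (S : Subgroup G) ≠ ⊥ := h.hyp.ctx.sylow_ne_bot S
  have h1 := MinPar.isLoc_centralizer_zc S hS1
  -- `c ∈ Ω₁Z(S)`
  have hcS : c ∈ zc (S : Subgroup G) := by
    refine mem_zc.2 ⟨(lb S n).BS ((lb S n).ZB hc), (lb S n).sq c hc, fun s hs => ?_⟩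
    exact full_cent h hc hcf S.isPGroup' (lb S n).BS hs
  have h2 : FrameNOFF.CZ (S : Subgroup G) ≤ M :=
    le_of_char2Z hs h hc hcf (bmh_of_lowZ S hK hN hl) (fun i => (hLM i).trans hK)
      (LevD.cent_le_K0.trans hK) hN ((lb S n).BS.trans h1.le)
      (centralizer_le (Set.singleton_subset_iff.2 hcS)) (h1.char2 S h.hyp.ctx.char2)
  have hP : P ≤ M := by
    have h3 := LevB.blkGen S h.hyp.toHyp.syl (lb S n).BS h.hyp.star.toIsMinPar
      (h.hyp.star.isLoc.char2 S h.hyp.ctx.char2) h.le hn1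
      (fun hc => h.hyp.star.not_zc (hc.trans (centralizer_le_normalizer _)))
    exact h3.trans (sup_le hK hSM)
  exact ho (h.hyp.nonLoc _ (isPGroup_o2 _) hP h2)

end line

end Cfsg.Agent.Omega.OM.SwapL

end

section


/-!
# (LL) for `q = 2` inside `C_G(c)`, `c ∈ Z_J` of full support

* `no_low_two` : if `c ∈ Z_J` of full support lies in all `N l`, then `Z_J ≤ N l` for all `l`;
* `exists_yb_cent` (natural, symmetric), `exists_ybj_cent` : `YB` at the stage of `Y`; elements centralised by `Y` lie in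
  all `N l`;
* `lowZ` : **`LowZ S n c`** for every `c ∈ Z_J` of full support.
-/

set_option autoImplicit false
set_option linter.unusedSectionVars false

namespace Cfsg.Agent.Omega.OM.Lev.Low

open Subgroup Cfsg Cfsg.Agent.ZN Cfsg.Agent.ZN.ChoiceBase Cfsg.Agent.ZN.ChoiceSit
open Cfsg.Agent.MinSimple.MinParabolic (IsMinPar)
open Cfsg.Agent.Omega.FFThm (NatK NatKM SymKM OffM NoOverM ElemM)
open Cfsg.Agent.Omega.FrameFF (cv)
open Cfsg.Agent.Omega.OM.LevB (lb zc_B nxt_lev isLev_T bz_lev)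
open Cfsg.Agent.Omega.OM.GLev
open Cfsg.Agent.Omega.OM.Lev.Uni (FrL)
open Cfsg.Agent.Omega.OM.SwapL (Ln ZL BG LowZ)
open Cfsg.Agent.Omega.NO3S.Level (lev lev_mono lev_isLev Lev BO nxt lev_le_succ lev_le)
open Cfsg.Agent.Omega.NO3S.OneLine (NatC natC_of)
open Cfsg.Agent.Omega.SQ1.Bau (mem_sup_comm)

universe u

variable {G : Type u} [Group G]

theorem eq_of_two {H : Subgroup G} (h2 : Nat.card H = 2) {x y : G} (hx : x ∈ H) (hy : y ∈ H) (hx1 : x ≠ 1)
    (hy1 : y ≠ 1) : x = y := by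
  have hne : (⟨x, hx⟩ : H) ≠ 1 := fun e => hx1 (congrArg Subtype.val e)
  have hne' : (⟨y, hy⟩ : H) ≠ 1 := fun e => hy1 (congrArg Subtype.val e)
  obtain ⟨a, b, hab, hu⟩ := Nat.card_eq_two_iff.1 h2
  have key : ∀ z : H, z = a ∨ z = b := fun z => by
    have : z ∈ ({a, b} : Set H) := by rw [hu]; exact Set.mem_univ z
    simpa using this
  have h3 : (⟨x, hx⟩ : H) = ⟨y, hy⟩ := by
    rcases key 1 with h1 | h1 <;> rcases key ⟨x, hx⟩ with h2 | h2 <;> rcases key ⟨y, hy⟩ with h3 | h3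
    · exact h2.trans h3.symm
    · exact absurd (h2.trans h1.symm) hne
    · exact absurd (h3.trans h1.symm) hne'
    · exact h2.trans h3.symm
    · exact h2.trans h3.symm
    · exact absurd (h3.trans h1.symm) hne'
    · exact absurd (h2.trans h1.symm) hne
    · exact h2.trans h3.symm
  exact congrArg Subtype.val h3

section fr

variable {ι Λ : Type*} {B Q V X ZJ : Subgroup G} {L W Z C A : ι → Subgroup G}

/-- `Z i` lies in `V_Y = V ∩ ∏ c l` or in `V_N = V ∩ ⋂ N l`. -/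
theorem Z_or (h : FrL B Q V X ZJ L W Z C A 2) [Finite G] [Finite ι] {T Y : Subgroup G}
    {N c : Λ → Subgroup G} [Finite Λ] (hY : YB T Y N c) (hV : YB.QV T Y Q V) (hBT : B ≤ T) (i : ι) :
    Z i ≤ YB.Cp c Set.univ ∨ Z i ≤ YB.Np Y N Set.univ := by
  obtain ⟨b, hb, hne⟩ : ∃ b ∈ A i, ¬ ∀ v ∈ W i, b * v = v * b := by
    by_contra hcon
    push Not at hcon
    exact h.Ane i hcon
  have r := rt h hBT hb hne
  have hcard := h.cardZ i
  obtain ⟨z, hz, hz1⟩ : ∃ z ∈ Z i, z ≠ 1 := by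
    by_contra hcon
    push Not at hcon
    have h1 : Z i = ⊥ := (Subgroup.eq_bot_iff_forall _).2 hcon
    rw [h1, Subgroup.card_bot] at hcard
    omega
  obtain ⟨v, hv, e⟩ := r.all z hz
  obtain ⟨a, haV, d, hdV, ha, hd, rfl⟩ := hY.restr hV (p := Set.univ) (fun _ _ _ _ _ => by simp) hv
  have hac : a * (b * a * b⁻¹) ∈ YB.Cp c Set.univ := mul_mem ha (hY.Cp_conj r.bT (fun _ _ _ _ => Set.mem_univ _) ha)
  have hdc : d * (b * d * b⁻¹) ∈ YB.Np Y N Set.univ :=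
    mul_mem hd (hY.Np_conj r.bT (fun _ _ _ _ => Set.mem_univ _) hd)
  have hra := YB.QV.memV hY hV r.bT haV
  have e2 : a * (b * a * b⁻¹) * (d * (b * d * b⁻¹)) = z := by
    rw [← e]
    calc a * (b * a * b⁻¹) * (d * (b * d * b⁻¹)) = a * ((b * a * b⁻¹) * d) * (b * d * b⁻¹) := by group
      _ = a * d * (b * (a * d) * b⁻¹) := by rw [hY.cm (hV.VX hra) (hV.VX hdV)]; group
  by_cases h1 : a * (b * a * b⁻¹) = 1
  · right
    rw [h1, one_mul] at e2
    intro x hx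
    by_cases hx1 : x = 1
    · rw [hx1]; exact one_mem _
    · rw [eq_of_two hcard hx hz hx1 hz1, ← e2]
      exact hdc
  · left
    intro x hx
    by_cases hx1 : x = 1
    · rw [hx1]; exact one_mem _
    · rw [eq_of_two hcard hx (r.com a haV) hx1 h1]
      exact hac

/-- **(LL), `q = 2`, inside `C_G(z)`.** -/
theorem no_low_two (h : FrL B Q V X ZJ L W Z C A 2) [Finite G] [Finite ι] {T Y : Subgroup G}
    {N c : Λ → Subgroup G} [Finite Λ] (hY : YB T Y N c) (hV : YB.QV T Y Q V) (hBT : B ≤ T) {z : G} (hz : z ∈ ZJ)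
    (hzC : ∀ i, z ∉ C i) (hzN : ∀ l, z ∈ N l) (l : Λ) : ZJ ≤ N l := by
  classical
  have hall : ∀ i, Z i ≤ YB.Np Y N Set.univ := by
    by_contra hcon
    push Not at hcon
    obtain ⟨i₀, hi₀⟩ := hcon
    have hi₁ : Z i₀ ≤ YB.Cp c Set.univ := (Z_or h hY hV hBT i₀).resolve_right hi₀
    set p : Set ι := {i | ¬ Z i ≤ YB.Np Y N Set.univ} with hp
    have h1 : ZJ ≤ (⨆ i ∈ p, Z i) ⊔ ⨆ i ∈ pᶜ, Z i := by
      refine zj_le h fun i => ?_
      by_cases hi : i ∈ p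
      · exact le_sup_of_le_left (le_iSup₂_of_le i hi le_rfl)
      · exact le_sup_of_le_right (le_iSup₂_of_le i hi le_rfl)
    have hC : (⨆ i ∈ p, Z i) ≤ YB.Cp c Set.univ :=
      iSup₂_le fun i hi => (Z_or h hY hV hBT i).resolve_right hi
    have hN : (⨆ i ∈ pᶜ, Z i) ≤ YB.Np Y N Set.univ := iSup₂_le fun i hi => not_not.1 hi
    obtain ⟨a, ha, d, hd, e⟩ := hY.mem_sup_cm (hC.trans (hY.Cp_le _)) (hN.trans (YB.Np_le _)) (h1 hz)
    have h2 : a = 1 := by
      refine hY.eq_one (hC ha) fun m _ => ?_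
      have h3 : a = z * d⁻¹ := by rw [e]; group
      rw [h3]
      exact mul_mem (hzN m) (inv_mem ((YB.mem_Np.1 (hN hd)).2 m (Set.mem_univ m)))
    rw [h2, one_mul] at e
    apply hzC i₀
    rw [e]
    refine (iSup₂_le fun i hi => ?_ : (⨆ i ∈ pᶜ, Z i) ≤ C i₀) hd
    exact ((h.blk i).ZV).trans (h.WjC i₀ i fun e => hi (e ▸ hi₀))
  have h2 := zj_le h hall
  exact fun x hx => (YB.mem_Np.1 (h2 hx)).2 l (Set.mem_univ l)

end fr

variable [Finite G]

section nat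

variable {F : Type} [Field F] {T H : Subgroup G} {k : ℕ} [Finite F] [CharP F 2] {X B ZJ : Subgroup G}
  {AA : Set (Subgroup G)} (h : GE T H X AA) (b : BZ T X AA B ZJ) (N : NatKM F T H (zl T H) (cv T H) k) (hk : 0 < k)
include h b N hk

/-- `YB` for a parabolic of natural type; elements centralised by `H` lie in all `N l`. -/
theorem exists_yb_cent (hex : ∃ A ∈ AA, ¬ A ≤ o2 H) (hZ : ¬ H ≤ centralizer (zc T : Set G)) :
    ∃ Ni c : Fin k → Subgroup G, YB T ZJ Ni c ∧ (∃ i, ¬ zc T ≤ Ni i) ∧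
      ∀ x ∈ ZJ, (∀ y ∈ H, y * x = x * y) → ∀ i, x ∈ Ni i := by
  obtain ⟨L, j, hL, hsup⟩ := exists_ld h b N hk hex
  obtain ⟨c, hc⟩ := hL.exists_co
  have hy := hL.yb_aux hc fun i s hs t ht hsm htm => cyc_line h.hm N hk hs hsm ht htm
  refine ⟨_, c, hy, ⟨j, fun hcon => hZ (hsup.trans (sup_le ?_ ?_))⟩, fun x hx hxH i => ?_⟩
  · exact NO3S.Level.le_centralizer_zc T
  · intro l hl
    rw [mem_centralizer_iff]
    intro z hz
    have h1 := (mem_Ni.1 (hcon hz)).2 1 (one_mem _) (MvI.one j) l hl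
    simp only [inv_one, one_mul, mul_one] at h1
    exact h1.symm
  · refine mem_Ni.2 ⟨hx, fun t ht _ l hl => ?_⟩
    have h1 : t⁻¹ * x * t = x := by
      have h2 := hxH t (h.hm.syl.1 ht)
      rw [mul_assoc, ← h2]; group
    rw [h1]
    exact hxH l (hL.LH hl)

end nat

/-- **`YB` at the stage of `Y`**; elements centralised by `Y` lie in all `N l`. -/
theorem exists_ybj_cent (S : Sylow 2 G) {T Y : Subgroup G} {j : ℕ} (hT : Syl T Y)
    (hB : LevB.BL (S : Subgroup G) j ≤ T)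
    (hP : IsMinPar T Y) (hc : Y ⊓ centralizer (o2 Y : Set G) ≤ o2 Y)
    (hlow : ∀ i < j, lev (S : Subgroup G) i ≤ o2 Y) (hn : ¬ lev (S : Subgroup G) j ≤ o2 Y)
    (hZ : ¬ Y ≤ centralizer (zc T : Set G)) :
    ∃ (Λ : Type) (_ : Finite Λ) (N c : Λ → Subgroup G), YB T (zc (lev (S : Subgroup G) j)) N c ∧
      (∃ l, ¬ zc T ≤ N l) ∧ ∀ x ∈ zc (lev (S : Subgroup G) j), (∀ y ∈ Y, y * x = x * y) → ∀ l, x ∈ N l := by
  obtain ⟨X, AA', hge, hbz, hex, hcon⟩ := exists_ge S hT hB hP hc hlow hn hZ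
  rcases hcon with ⟨F, _, _, _, k, hk, ⟨N⟩⟩ | ⟨k, m, hk, hm, ⟨N⟩⟩
  · obtain ⟨Ni, c, hy, hi, hx⟩ := exists_yb_cent hge hbz N hk hex hZ
    exact ⟨Fin k, inferInstance, Ni, c, hy, hi, hx⟩
  · obtain ⟨ι, hf, ⟨i⟩, W, K, d, hy, -, -, -, -, -, -, hKH, hsup⟩ := YSym.exists_yb hge hbz N hk (by omega) hex
    refine ⟨ι, hf, _, _, hy, ⟨i, fun hle => hZ ((hsup i).trans (sup_le ?_ ?_))⟩, fun x _ hx l => ?_⟩
    · exact NO3S.Level.le_centralizer_zc T
    · exact le_centralizer_iff.1 hle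
    · exact mem_centralizer_iff.2 fun y hy => hx y (hKH l hy)

section line

variable {ι : Type} [Finite ι] {S : Sylow 2 G} {P : Subgroup G} {n : ℕ} {L W Z C A : ι → Subgroup G}

/-- **LL inside `C_G(c)`, `c` of full support.** -/
theorem lowZ (h : Ln S P n L W Z C A 2) {c : G} (hc : c ∈ ZL (S : Subgroup G) n) (hcf : ∀ i, c ∉ C i) :
    LowZ S n c := by
  intro T Y hT hB hY hYc hch hn
  by_contra hZ
  obtain ⟨j, hj, hlow, hnj⟩ := exists_stg (S : Subgroup G) hn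
  have hBj : LevB.BL (S : Subgroup G) j ≤ T := (BL_mono (S : Subgroup G) (by omega : j ≤ n + 1)).trans hB
  obtain ⟨Λ, _, N, c', hy, ⟨l, hl⟩, hcN⟩ := exists_ybj_cent S hT hBj hY hch hlow hnj hZ
  have hV := qv h hT.2.1 hB hj
  have hcX : c ∈ zc (lev (S : Subgroup G) j) := hV.VX (h.fr.ZJV hc)
  have h1 := no_low_two h.fr hy hV hB hc hcf
    (hcN c hcX fun y hy' => mem_centralizer_singleton_iff.1 (hYc hy')) l
  exact hl ((zc_T_le S hT.2.1 hB).trans h1)

end line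

end Cfsg.Agent.Omega.OM.Lev.Low

end
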