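import Cfsg.Agent.Mrg.Omega.OM.SwapL.Main
import Cfsg.Agent.Mrg.Omega.OM.SwapL.PlugZ

section


/-!
# THEOREM SW: (Om) is impossible for `q = 2`, no hypothesis

* `noOm_two` : `K0` normalises no nontrivial 2-subgroup, over the ground frame `Ln S P n L W Z C A 2` (natural and
  symmetric types);
* `nloc_two` : natural type;
* `omLevZ_two` : the socket `MultiOf.OmLev K (fun _ q => q = 2)`; `omOfZ_two` : `MultiOf.OmOf K (fun _ q => q = 2)`.
-/

set_option autoImplicit false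

namespace Cfsg.Agent.Omega.OM.SwapL

open Subgroup Cfsg Cfsg.Agent.ZN.ChoiceBase Cfsg.Agent.ZN.ChoiceSit
open Cfsg.Agent.ZN (jj zj bau zc zl o2)
open Cfsg.Agent.Omega.NO3S (HypN HypL)
open Cfsg.Agent.Omega.NO3S.Level (lev)
open Cfsg.Agent.Omega.FFThm (NatK NatKM)
open Cfsg.Agent.Omega.FrameFF (cv)
open Cfsg.Agent.Omega.Frame (Cls)
open Cfsg.Agent.Omega.OM.LevD (Fam K0)
open Cfsg.Agent.Omega.OM.LevB (FBlk)
open Cfsg.Agent.Omega.Node.MultiOf (FBl KZ NLoc OmLev OmNeg OmOf)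

universe u

/-- **(Om) is impossible for `q = 2` at stage `n`**, over the ground frame. -/
theorem noOm_two {G : Type u} [Group G] [Finite G] {ι : Type} [Finite ι] {S : Sylow 2 G} {P : Subgroup G} {n : ℕ}
    {L W Z C A : ι → Subgroup G} (h : Ln S P n L W Z C A 2) (hn1 : ¬ lev (S : Subgroup G) (n + 1) ≤ o2 P)
    (hF : Fam (BL (S : Subgroup G) n) (ZL (S : Subgroup G) n) (FBlk (BL (S : Subgroup G) n)))
    (hLM : ∀ i, L i ≤ K0 (ZL (S : Subgroup G) n) (FBlk (BL (S : Subgroup G) n))) :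
    ∀ R : Subgroup G, IsPGroup 2 R →
      K0 (ZL (S : Subgroup G) n) (FBlk (BL (S : Subgroup G) n)) ≤ normalizer (R : Set G) → R = ⊥ := by
  obtain ⟨c, hc, hcf⟩ := exists_full h
  exact noOmZ sitFFalse h hn1 hF hLM hc hcf (Lev.Low.lowZ h hc hcf)

/-- **(Om) is impossible for `q = 2`, at stage `n`.** -/
theorem nloc_two {G : Type u} [Group G] [Finite G]
    {S : Sylow 2 G} {P : Subgroup G} {k : ℕ} (h : HypL S P) {n : ℕ}
    (hall : ∀ R, MinPar.IsParS (S : Subgroup G) R → lev (S : Subgroup G) n ≤ o2 R)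
    (hn1 : ¬ lev (S : Subgroup G) (n + 1) ≤ o2 P) (hk : 2 ≤ k)
    {F : Type} [Field F] [Finite F] [CharP F 2] (hF : Nat.card F = 2)
    (N : NatKM F (S : Subgroup G) P (zl (S : Subgroup G) P) (cv (S : Subgroup G) P) k) :
    NLoc (KZ (BL (S : Subgroup G) n) (ZL (S : Subgroup G) n)) := by
  obtain ⟨M, L, Z, A, -, hFr, hBg, -⟩ := Lev.Main.bg_lev h.toHypN (hall P h.star) hn1 hk N
    (B := BL (S : Subgroup G) n) rfl
  rw [hF] at hFr hBg
  have hm : Node.MultiOf.Mul S P (lev (S : Subgroup G) (n + 1)) (BL (S : Subgroup G) n) (ZL (S : Subgroup G) n)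
      L _ Z _ 2 :=
    ⟨h, Node.MultiOf.StgP.lev n hall (hall P h.star) hn1, hBg, F, inferInstance, inferInstance, inferInstance, hF,
      ⟨N⟩⟩
  have hln : Ln S P n L _ Z _ A 2 := ⟨h.toHypN, hall P h.star, hFr, hBg.two⟩
  have hfam : Fam (BL (S : Subgroup G) n) (ZL (S : Subgroup G) n) (FBlk (BL (S : Subgroup G) n)) := by
    have e : FBlk (BL (S : Subgroup G) n) = FBl (BL (S : Subgroup G) n) := by
      funext L V
      exact propext ⟨fun h => ⟨h.fb, h.blk⟩, fun h => ⟨h.fb, h.blk⟩⟩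
    rw [e]
    exact hm.fam
  have h1 := noOm_two hln hn1 hfam (fun i => by rw [K0_eq]; exact hm.L_le i)
  rw [K0_eq] at h1
  exact h1

/-- **(Om), stage `n`, `q = 2`.** -/
theorem omLevZ_two {K : Cls.{u}} : OmLev K fun _ q => q = 2 := by
  intro G _ _ hK S P k h n hall hn1 hk F _ _ _ hF N B ZJ hZJ hB ho
  subst hZJ hB
  exact absurd (nloc_two h hall hn1 hk hF N _ (isPGroup_o2 _) (le_normalizer_o2 _)) ho

/-- **(Om), `q = 2`.** -/
theorem omOfZ_two {K : Cls.{u}} : OmOf K fun _ q => q = 2 :=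
  Node.MultiOf.omOf_of omNeg_two omLevZ_two

end Cfsg.Agent.Omega.OM.SwapL

end

section


/-!
# NO-3S, (Om), symmetric types: no hypothesis

* `noOm_lev` : (Om) is impossible at stage `n` over the ground frame;
* `omLevS_two : OmLevS K c`, `omS_two : OmS K c`.
-/

set_option autoImplicit false

namespace Cfsg.Agent.Omega.Node.OmLevZ

open Subgroup Cfsg Cfsg.Agent.ZN.ChoiceBase Cfsg.Agent.ZN.ChoiceSit
open Cfsg.Agent.ZN (jj zj bau zc zl o2)
open Cfsg.Agent.Omega.FFThm (SymKM)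
open Cfsg.Agent.Omega.FrameFF (cv)
open Cfsg.Agent.Omega.NO3S (HypL HypN HypJ Hyp PSS)
open Cfsg.Agent.Omega.NO3S.Level (lev lev_isLev)
open Cfsg.Agent.Omega.Frame (Cls)
open Cfsg.Agent.Omega.OM
open Cfsg.Agent.Omega.OM.LevD (Fam)
open Cfsg.Agent.Omega.OM.LevB (FBlk)
open Cfsg.Agent.Omega.OM.SwapL (BL ZL Ln K0_eq)
open Cfsg.Agent.Omega.Node.MultiOf Cfsg.Agent.Omega.Node.SymOf

universe u

/-- **(Om) is impossible at stage `n`, `q = 2`**, frame level. -/
theorem noOm_lev {G : Type u} [Group G] [Finite G] {S : Sylow 2 G} {P : Subgroup G} {n : ℕ} {ι : Type} [Finite ι]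
    {L W Z C A : ι → Subgroup G} (h : Ln S P n L W Z C A 2) (hn1 : ¬ lev (S : Subgroup G) (n + 1) ≤ o2 P)
    (hF : Fam (BL (S : Subgroup G) n) (ZL (S : Subgroup G) n) (FBl (BL (S : Subgroup G) n)))
    (hL : ∀ i, FBl (BL (S : Subgroup G) n) (L i) (W i)) :
    NLoc (KZ (BL (S : Subgroup G) n) (ZL (S : Subgroup G) n)) := by
  have hfam : Fam (BL (S : Subgroup G) n) (ZL (S : Subgroup G) n) (FBlk (BL (S : Subgroup G) n)) := by
    rw [OmLevOf.fblk_eq]
    exact hF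
  have h1 := SwapL.noOm_two h hn1 hfam (fun i => by rw [K0_eq]; exact LevD.blk_le_K0 (hL i))
  rw [K0_eq] at h1
  exact h1

variable {K : Cls.{u}}

/-- **(Om), stage `n`, symmetric types.** -/
theorem omLevS_two {c : ℕ → ℕ → Prop} : OmLevS K c := by
  intro G _ _ _ S P k m h n hall hn1 hk hm _ N B ZJ eZ eB ho
  subst eZ
  subst eB
  obtain ⟨ι, hι, W, d, t, r, L, A, -, -, -, -, h2, hFr⟩ := Lev.Sym.exists_sym_lev FF.Glob.ffthmM
      h.toHyp.ctx.char2 h.star (lev_isLev (S : Subgroup G) n) (hall P h.star) h.toHyp.inf_eq_bot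
      (NO3S.exists_BO h.toHyp.ctx.char2 h.star (hall P h.star) hn1) hk hm N
  have hM : MulS S P _ _ _ L W _ _ k m :=
    ⟨h, StgP.lev n hall (hall P h.star) hn1, ⟨N⟩, Lev.Main.toFg hFr, hι, h2⟩
  have hln : Ln S P n L W _ _ A 2 := ⟨h.toHypN, hall P h.star, hFr, h2⟩
  exact absurd (noOm_lev hln hn1 hM.fam hM.fbl _ (isPGroup_o2 _) (le_normalizer_o2 _)) ho

/-- **(Om), symmetric types, all stages.** -/
theorem omS_two {c : ℕ → ℕ → Prop} : OmS K c := omS_of (OmLevOf.omNegS K c) omLevS_two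

end Cfsg.Agent.Omega.Node.OmLevZ

end
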